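import Mathlib
import Cfsg.Prelude.Def_Characters
import Cfsg.Prelude.Def_Blocks

/-!
# S4501 (Brauer–Tuan: simple groups of order `4 p^a q^b`, `3 p^a q^b`) – shared definitions

`KData G` packages the output of S0948 (principal `2`-block of a group with Klein four Sylow
`2`-subgroups and one class of involutions) together with Brauer's order formula S4479.
`x₂ x₃ x₄` are the degrees of the three non-principal characters `ζ₂ ζ₃ ζ₄` of the principal
block, their values at involutions are `1, ε, -1`.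
-/

set_option autoImplicit false

namespace Cfsg.Agent.Helper27.BT1

open Cfsg

universe u

/-- the data of the principal `2`-block of a group with Klein four Sylow `2`-subgroups -/
structure KData (G : Type u) [Group G] [Finite G] where
  M : Ideal AlgInt
  hM : IsPModular 2 M
  P : Sylow 2 G
  hP : IsKleinFour (P : Subgroup G)
  hone : ∀ s t : G, orderOf s = 2 → orderOf t = 2 → IsConj s t
  J : G
  hJ : J ∈ (P : Subgroup G)
  hJ2 : orderOf J = 2
  ζ₂ : IrrCharacter G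
  ζ₃ : IrrCharacter G
  ζ₄ : IrrCharacter G
  ε : ℤ
  hε : ε = 1 ∨ ε = -1
  h2 : (ζ₂ : G → ℂ) ≠ fun _ => 1
  h3 : (ζ₃ : G → ℂ) ≠ fun _ => 1
  h4 : (ζ₄ : G → ℂ) ≠ fun _ => 1
  h4B : ζ₄ ∈ principalBlock M G
  h4v : ∀ z : G, orderOf z = 2 → (ζ₄ : G → ℂ) z = -1
  hd2 : (4 : ℤ) ∣ (charDegree (ζ₂ : G → ℂ) : ℤ) - 1
  hd3 : (4 : ℤ) ∣ (charDegree (ζ₃ : G → ℂ) : ℤ) - ε
  hd4 : (4 : ℤ) ∣ (charDegree (ζ₄ : G → ℂ) : ℤ) + 1
  hrel : 1 + (charDegree (ζ₂ : G → ℂ) : ℤ) + ε * (charDegree (ζ₃ : G → ℂ) : ℤ)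
    - (charDegree (ζ₄ : G → ℂ) : ℤ) = 0
  hord : (Nat.card G : ℚ) = 8 * (((charDegree (ζ₂ : G → ℂ) : ℚ) * charDegree (ζ₃ : G → ℂ)
      * charDegree (ζ₄ : G → ℂ)) / ((charDegree (ζ₂ : G → ℂ) + (1 : ℤ))
      * (charDegree (ζ₃ : G → ℂ) + ε) * (charDegree (ζ₄ : G → ℂ) + (-1 : ℤ))))
      * (Nat.card (Subgroup.centralizer ({J} : Set G)) : ℚ) ^ 3
      / (Nat.card (Subgroup.centralizer ((P : Subgroup G) : Set G)) : ℚ) ^ 2

/-- `m` has only the prime divisors `p` and `q` -/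
def PQ (p q m : ℕ) : Prop := ∀ r : ℕ, r.Prime → r ∣ m → r = p ∨ r = q

end Cfsg.Agent.Helper27.BT1
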