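import Mathlib
import Cfsg.Agent.Lib.BT1.BT1Defs

/-!
# PIECE BT1-AR1A (S4501): prime-power dichotomy (pure arithmetic)

`x > 1` and `y` have only the prime divisors `p, q`, and `x + ε = 2 y` with `ε = ±1`.  Then
`gcd(x, y) = 1` (a common divisor divides `ε`), so `x` and `y` have no common prime; hence either
`x` is a power of `p` and `y` a power of `q`, or the other way round.  (If both `p ∣ x` and
`q ∣ x` then `y = 1`, `x = 2 - ε ∈ {1, 3}`, which is not divisible by two distinct primes.)
A number all of whose prime divisors are `= p` is a power of `p`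
(`Nat.eq_prime_pow_of_unique_prime_dvd`).
-/

set_option autoImplicit false

namespace Cfsg.Agent.Helper27.BT1

theorem bt1ar1a_aux (p q : ℕ) (x y : ℕ) (hx : 1 < x) (hy0 : y ≠ 0)
    (hcop : ∀ r : ℕ, r.Prime → r ∣ x → ¬ r ∣ y) (hxs : PQ p q x) (hys : PQ p q y)
    (hpx : p ∣ x) (hqx : ¬ q ∣ x) : ∃ c d : ℕ, 1 ≤ c ∧ x = p ^ c ∧ y = q ^ d := by
  have hx0 : x ≠ 0 := by omega
  have h1 : x = p ^ x.primeFactorsList.length := by
    apply Nat.eq_prime_pow_of_unique_prime_dvd hx0
    intro d hd hdx
    rcases hxs d hd hdx with h | h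
    · exact h
    · exact absurd (h ▸ hdx) hqx
  have h2 : y = q ^ y.primeFactorsList.length := by
    apply Nat.eq_prime_pow_of_unique_prime_dvd hy0
    intro d hd hdy
    rcases hys d hd hdy with h | h
    · exfalso
      subst h
      exact hcop d hd hpx hdy
    · exact h
  refine ⟨x.primeFactorsList.length, y.primeFactorsList.length, ?_, h1, h2⟩
  by_contra hc
  have hc0 : x.primeFactorsList.length = 0 := by omega
  rw [hc0, pow_zero] at h1
  omega

theorem pq_dichotomy (p q : ℕ) (hp : p.Prime) (hq : q.Prime) (hpq : p ≠ q)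
    (x y : ℕ) (ε : ℤ) (hε : ε = 1 ∨ ε = -1) (hx : 1 < x) (hxs : PQ p q x) (hys : PQ p q y)
    (hy : (x : ℤ) + ε = 2 * y) :
    (∃ c d : ℕ, 1 ≤ c ∧ x = p ^ c ∧ y = q ^ d) ∨ (∃ c d : ℕ, 1 ≤ c ∧ x = q ^ c ∧ y = p ^ d) := by
  have hy0 : y ≠ 0 := by
    rintro rfl
    rcases hε with h | h <;> subst h <;> omega
  have hcop : ∀ r : ℕ, r.Prime → r ∣ x → ¬ r ∣ y := by
    intro r hr hrx hry
    have h1 : (r : ℤ) ∣ (x : ℤ) := Int.natCast_dvd_natCast.mpr hrx
    have h2 : (r : ℤ) ∣ (y : ℤ) := Int.natCast_dvd_natCast.mpr hry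
    have h3 : (r : ℤ) ∣ ε := by
      have : ε = 2 * (y : ℤ) - x := by linarith
      rw [this]
      exact dvd_sub (Dvd.dvd.mul_left h2 2) h1
    have h4 : (r : ℤ) ∣ 1 := by
      rcases hε with h | h
      · rwa [h] at h3
      · rw [h] at h3
        exact (dvd_neg.mp h3)
    have h5 : r ∣ 1 := by exact_mod_cast h4
    exact hr.one_lt.ne' (Nat.dvd_one.mp h5)
  have hys' : PQ q p y := fun r hr hry => (hys r hr hry).symm
  have hxs' : PQ q p x := fun r hr hrx => (hxs r hr hrx).symm
  by_cases hpx : p ∣ x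
  · by_cases hqx : q ∣ x
    · exfalso
      have hy1 : y = 1 := by
        by_contra hne
        obtain ⟨r, hr, hry⟩ := Nat.exists_prime_and_dvd hne
        rcases hys r hr hry with h | h
        · subst h
          exact hcop r hr hpx hry
        · subst h
          exact hcop r hr hqx hry
      subst hy1
      have hx3 : x = 3 := by
        rcases hε with h | h <;> subst h <;> omega
      subst hx3
      have h1 : p = 3 := (Nat.prime_dvd_prime_iff_eq hp Nat.prime_three).mp hpx
      have h2 : q = 3 := (Nat.prime_dvd_prime_iff_eq hq Nat.prime_three).mp hqx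
      exact hpq (h1.trans h2.symm)
    · exact Or.inl (bt1ar1a_aux p q x y hx hy0 hcop hxs hys hpx hqx)
  · have hqx : q ∣ x := by
      obtain ⟨r, hr, hrx⟩ := Nat.exists_prime_and_dvd (show x ≠ 1 by omega)
      rcases hxs r hr hrx with h | h
      · subst h
        exact absurd hrx hpx
      · subst h
        exact hrx
    exact Or.inr (bt1ar1a_aux q p x y hx hy0 hcop hxs' hys' hqx hpx)

end Cfsg.Agent.Helper27.BT1
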