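import Mathlib
import Cfsg.Agent.Lib.BT1.BT1Defs

/-!
# PIECE BT1-AR1B (S4501): the core Diophantine lemma (pure arithmetic, machine-checked
numerically for all odd primes `< 60` and values `< 10^7`)

`p ≠ q` odd primes.  `x₁ = p^c₁`, `x₂ = p^c₂`, `x₃ = q^c₃` (`c_i ≥ 1`), `y₁ = q^d₁`, `y₂ = q^d₂`,
`y₃ = p^d₃`, `x_i + ε_i = 2 y_i` (`ε_i = ±1`) and `1 + ε₁ x₁ + ε₂ x₂ + ε₃ x₃ = 0`.
Then `p = 3`, `q = 5`, `x₁ = x₂ = 3`, `x₃ = 5`, `ε₁ = ε₂ = -1`, `ε₃ = 1`.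

PROOF.  `ε₃ x₃ = 2 ε₃ y₃ - 1` (as `ε₃² = 1`), so the relation becomes
  (★)  `ε₁ p^c₁ + ε₂ p^c₂ + 2 ε₃ p^d₃ = 0`.
WLOG `c₁ ≤ c₂` (the hypotheses are symmetric in the indices 1, 2).
* `c₁ = c₂ = c`: `ε₁ = -ε₂` would give `p^d₃ = 0`; so `ε₁ = ε₂ = ε`, `ε₃ = -ε`, `d₃ = c`.  Then
  `y₁ = y₂ = (p^c + ε)/2 = q^d₁` and `x₃ = q^c₃ = 2 p^c + ε`.  If `d₁ ≥ 1` then `q ∣ p^c + ε` and
  `q ∣ 2 p^c + ε`, so `q ∣ p^c`, `q = p`: contradiction.  So `d₁ = 0`, `p^c + ε = 2`, `p^c = 3`,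
  `ε = -1`, `p = 3`, `c = 1`, `q^c₃ = 5`, `q = 5`, `c₃ = 1`.
* `c₁ < c₂`: in (★) the `p`-adic valuations of the three terms are `c₁ < c₂` and `d₃` (`p` odd);
  a zero sum needs the minimum twice, so `d₃ = c₁`; dividing by `p^c₁`:
  `ε₁ + ε₂ p^(c₂-c₁) + 2 ε₃ = 0`, so `p^(c₂-c₁) = |ε₁ + 2 ε₃| ∈ {1, 3}`: `p = 3`, `c₂ = c₁ + 1`,
  `ε₃ = ε₁`, `ε₂ = -ε₁`.  Now `y₁ = (3^c₁ + ε₁)/2 = q^d₁` and `x₃ = q^c₃ = 2·3^c₁ - ε₁`; if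
  `d₁ ≥ 1` then `q ∣ 3^c₁ + ε₁` and `q ∣ 2·3^c₁ - ε₁`, so `q ∣ 3·3^c₁`, `q = 3 = p`:
  contradiction; so `d₁ = 0`, `3^c₁ + ε₁ = 2`, `c₁ = 1`, `ε₁ = -1`, `x₂ = 9`, `ε₂ = 1`,
  `y₂ = 5 = q^d₂`, so `q = 5`; but `x₃ = q^c₃ = 2·3 + 1 = 7`: contradiction.
-/

set_option autoImplicit false

namespace Cfsg.Agent.Helper27.BT1

/-- the `p`-adic valuation argument for (★) when `c₁ < c₂` -/
theorem bt1ar1b_star (p : ℕ) (hp : p.Prime) (hp2 : p ≠ 2) (a k d : ℕ)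
    (ε₁ ε₂ ε₃ : ℤ) (h1 : ε₁ = 1 ∨ ε₁ = -1) (h2 : ε₂ = 1 ∨ ε₂ = -1) (h3 : ε₃ = 1 ∨ ε₃ = -1)
    (hstar : ε₁ * (p : ℤ) ^ a + ε₂ * (p : ℤ) ^ (a + k + 1) + 2 * ε₃ * (p : ℤ) ^ d = 0) :
    d = a ∧ (p : ℤ) ^ (k + 1) = 3 ∧ ε₃ = ε₁ ∧ ε₂ = -ε₁ := by
  have hpos : (0 : ℤ) < p := by exact_mod_cast hp.pos
  have hp3 : (3 : ℤ) ≤ p := by
    have h2le := hp.two_le
    have : 3 ≤ p := by omega
    exact_mod_cast this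
  have hnd1 : ¬ (p : ℤ) ∣ 1 := by
    intro h
    have := Int.le_of_dvd one_pos h
    omega
  have hnd2 : ¬ (p : ℤ) ∣ 2 := by
    intro h
    have := Int.le_of_dvd two_pos h
    omega
  rcases lt_trichotomy d a with h | h | h
  · exfalso
    obtain ⟨j, rfl⟩ := Nat.exists_eq_add_of_lt h
    have e : (p : ℤ) ^ d * (ε₁ * (p : ℤ) ^ (j + 1) + ε₂ * (p : ℤ) ^ (j + 1 + k + 1) + 2 * ε₃) = 0 := by
      linear_combination hstar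
    have e2 := (mul_eq_zero.mp e).resolve_left (pow_ne_zero _ hpos.ne')
    have hdvd : (p : ℤ) ∣ 2 * ε₃ :=
      ⟨-(ε₁ * (p : ℤ) ^ j + ε₂ * (p : ℤ) ^ (j + 1 + k)), by linear_combination e2⟩
    rcases h3 with rfl | rfl
    · exact hnd2 (by simpa using hdvd)
    · apply hnd2
      have h5 : (p : ℤ) ∣ -(2 * -1) := (dvd_neg).mpr hdvd
      simpa using h5
  · subst h
    have e : (p : ℤ) ^ d * (ε₁ + ε₂ * (p : ℤ) ^ (k + 1) + 2 * ε₃) = 0 := by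
      linear_combination hstar
    have e2 := (mul_eq_zero.mp e).resolve_left (pow_ne_zero _ hpos.ne')
    have hX : (3 : ℤ) ≤ (p : ℤ) ^ (k + 1) := by
      calc (3 : ℤ) ≤ p := hp3
        _ = (p : ℤ) ^ 1 := (pow_one _).symm
        _ ≤ (p : ℤ) ^ (k + 1) := pow_le_pow_right₀ (by omega) (by omega)
    generalize (p : ℤ) ^ (k + 1) = X at e2 hX ⊢
    rcases h1 with rfl | rfl <;> rcases h2 with rfl | rfl <;> rcases h3 with rfl | rfl <;>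
      refine ⟨rfl, ?_, ?_, ?_⟩ <;> omega
  · exfalso
    obtain ⟨j, rfl⟩ := Nat.exists_eq_add_of_lt h
    have e : (p : ℤ) ^ a * (ε₁ + ε₂ * (p : ℤ) ^ (k + 1) + 2 * ε₃ * (p : ℤ) ^ (j + 1)) = 0 := by
      linear_combination hstar
    have e2 := (mul_eq_zero.mp e).resolve_left (pow_ne_zero _ hpos.ne')
    have hdvd : (p : ℤ) ∣ ε₁ :=
      ⟨-(ε₂ * (p : ℤ) ^ k + 2 * ε₃ * (p : ℤ) ^ j), by linear_combination e2⟩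
    rcases h1 with rfl | rfl
    · exact hnd1 hdvd
    · exact hnd1 ((dvd_neg).mp hdvd)

/-- the lemma with `c₁ ≤ c₂`, in cast-free form -/
theorem bt1ar1b_le (p q : ℕ) (hp : p.Prime) (hq : q.Prime) (hpq : p ≠ q) (hp2 : p ≠ 2)
    (c₁ c₂ c₃ d₁ d₂ d₃ : ℕ) (hc₁ : 1 ≤ c₁) (hc₃ : 1 ≤ c₃) (hle : c₁ ≤ c₂)
    (ε₁ ε₂ ε₃ : ℤ) (hε₁ : ε₁ = 1 ∨ ε₁ = -1) (hε₂ : ε₂ = 1 ∨ ε₂ = -1) (hε₃ : ε₃ = 1 ∨ ε₃ = -1)
    (hy₁ : (p : ℤ) ^ c₁ + ε₁ = 2 * (q : ℤ) ^ d₁)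
    (hy₂ : (p : ℤ) ^ c₂ + ε₂ = 2 * (q : ℤ) ^ d₂)
    (hy₃ : (q : ℤ) ^ c₃ + ε₃ = 2 * (p : ℤ) ^ d₃)
    (hrel : 1 + ε₁ * (p : ℤ) ^ c₁ + ε₂ * (p : ℤ) ^ c₂ + ε₃ * (q : ℤ) ^ c₃ = 0) :
    p = 3 ∧ q = 5 ∧ c₁ = 1 ∧ c₂ = 1 ∧ c₃ = 1 ∧ ε₁ = -1 ∧ ε₂ = -1 ∧ ε₃ = 1 := by
  have he3 : ε₃ ^ 2 = 1 := by rcases hε₃ with rfl | rfl <;> norm_num
  have hstar : ε₁ * (p : ℤ) ^ c₁ + ε₂ * (p : ℤ) ^ c₂ + 2 * ε₃ * (p : ℤ) ^ d₃ = 0 := by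
    linear_combination hrel - ε₃ * hy₃ + he3
  have hppos : (0 : ℤ) < p := by exact_mod_cast hp.pos
  have hp3 : (3 : ℤ) ≤ p := by
    have h2le := hp.two_le
    have : 3 ≤ p := by omega
    exact_mod_cast this
  have hA3 : (3 : ℤ) ≤ (p : ℤ) ^ c₁ := by
    calc (3 : ℤ) ≤ p := hp3
      _ = (p : ℤ) ^ 1 := (pow_one _).symm
      _ ≤ (p : ℤ) ^ c₁ := pow_le_pow_right₀ (by omega) hc₁
  have hqc : (q : ℤ) ∣ (q : ℤ) ^ c₃ := dvd_pow_self _ (by omega)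
  rcases Nat.eq_or_lt_of_le hle with heq | hlt
  · -- `c₁ = c₂`
    subst heq
    have hD : (0 : ℤ) < (p : ℤ) ^ d₃ := pow_pos hppos _
    have hfacts : ε₂ = ε₁ ∧ ε₃ = -ε₁ ∧ (p : ℤ) ^ d₃ = (p : ℤ) ^ c₁ := by
      generalize (p : ℤ) ^ d₃ = D at hstar hD ⊢
      generalize (p : ℤ) ^ c₁ = A at hstar hA3 ⊢
      rcases hε₁ with rfl | rfl <;> rcases hε₂ with rfl | rfl <;> rcases hε₃ with rfl | rfl <;>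
        refine ⟨?_, ?_, ?_⟩ <;> omega
    obtain ⟨he21, he31, hDA⟩ := hfacts
    have hq3 : (q : ℤ) ^ c₃ = 2 * (p : ℤ) ^ c₁ + ε₁ := by
      rw [he31, hDA] at hy₃
      linarith
    by_cases hd1 : 1 ≤ d₁
    · exfalso
      have hqd : (q : ℤ) ∣ (q : ℤ) ^ d₁ := dvd_pow_self _ (by omega)
      have h4 : (q : ℤ) ∣ (p : ℤ) ^ c₁ := by
        have e : (p : ℤ) ^ c₁ = (q : ℤ) ^ c₃ - 2 * (q : ℤ) ^ d₁ := by linarith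
        rw [e]
        exact dvd_sub hqc (Dvd.dvd.mul_left hqd 2)
      have h5 : q ∣ p ^ c₁ := by exact_mod_cast h4
      have h6 := hq.dvd_of_dvd_pow h5
      exact hpq ((Nat.prime_dvd_prime_iff_eq hq hp).mp h6).symm
    · have hd0 : d₁ = 0 := by omega
      subst hd0
      rw [pow_zero, mul_one] at hy₁
      have hε1 : ε₁ = -1 := by
        rcases hε₁ with rfl | rfl
        · omega
        · rfl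
      have hA : (p : ℤ) ^ c₁ = 3 := by
        rw [hε1] at hy₁
        linarith
      have hA' : p ^ c₁ = 3 := by exact_mod_cast hA
      obtain ⟨hp3', hc1'⟩ := (Nat.Prime.pow_eq_iff Nat.prime_three).mp hA'
      have hQ : (q : ℤ) ^ c₃ = 5 := by
        rw [hq3, hA, hε1]
        norm_num
      have hQ' : q ^ c₃ = 5 := by exact_mod_cast hQ
      obtain ⟨hq5, hc3'⟩ := (Nat.Prime.pow_eq_iff Nat.prime_five).mp hQ'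
      refine ⟨hp3', hq5, hc1', hc1', hc3', hε1, ?_, ?_⟩
      · rw [he21, hε1]
      · rw [he31, hε1]
        norm_num
  · -- `c₁ < c₂`
    exfalso
    obtain ⟨k, rfl⟩ := Nat.exists_eq_add_of_lt hlt
    obtain ⟨hd, hpk, he31, he21⟩ :=
      bt1ar1b_star p hp hp2 c₁ k d₃ ε₁ ε₂ ε₃ hε₁ hε₂ hε₃ hstar
    have hpk' : p ^ (k + 1) = 3 := by exact_mod_cast hpk
    obtain ⟨hp3', hk1⟩ := (Nat.Prime.pow_eq_iff Nat.prime_three).mp hpk'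
    have hk0 : k = 0 := by omega
    subst hk0
    subst hd
    have hq3 : (q : ℤ) ^ c₃ = 2 * (p : ℤ) ^ d₃ - ε₁ := by
      rw [he31] at hy₃
      linarith
    have hpz : (p : ℤ) = 3 := by exact_mod_cast hp3'
    by_cases hd1 : 1 ≤ d₁
    · have hqd : (q : ℤ) ∣ (q : ℤ) ^ d₁ := dvd_pow_self _ (by omega)
      have h4 : (q : ℤ) ∣ (p : ℤ) ^ (d₃ + 1) := by
        have e : (p : ℤ) ^ (d₃ + 1) = (q : ℤ) ^ c₃ + 2 * (q : ℤ) ^ d₁ := by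
          rw [pow_succ, hpz]
          rw [hpz] at hq3 hy₁
          linarith
        rw [e]
        exact dvd_add hqc (Dvd.dvd.mul_left hqd 2)
      have h5 : q ∣ p ^ (d₃ + 1) := by exact_mod_cast h4
      have h6 := hq.dvd_of_dvd_pow h5
      exact hpq ((Nat.prime_dvd_prime_iff_eq hq hp).mp h6).symm
    · have hd0 : d₁ = 0 := by omega
      subst hd0
      rw [pow_zero, mul_one] at hy₁
      have hε1 : ε₁ = -1 := by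
        rcases hε₁ with rfl | rfl
        · omega
        · rfl
      have hA : (p : ℤ) ^ d₃ = 3 := by
        rw [hε1] at hy₁
        linarith
      have hQ : (q : ℤ) ^ c₃ = 7 := by
        rw [hq3, hA, hε1]
        norm_num
      have hQ' : q ^ c₃ = 7 := by exact_mod_cast hQ
      obtain ⟨hq7, -⟩ := (Nat.Prime.pow_eq_iff (by norm_num : Nat.Prime 7)).mp hQ'
      have hB : (p : ℤ) ^ (d₃ + 0 + 1) = 9 := by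
        rw [add_zero, pow_succ, hA, hpz]
        norm_num
      have hY : (q : ℤ) ^ d₂ = 5 := by
        rw [hB, he21, hε1] at hy₂
        linarith
      have hY' : q ^ d₂ = 5 := by exact_mod_cast hY
      obtain ⟨hq5, -⟩ := (Nat.Prime.pow_eq_iff Nat.prime_five).mp hY'
      omega

theorem ppq_core (p q : ℕ) (hp : p.Prime) (hq : q.Prime) (hpq : p ≠ q) (hp2 : p ≠ 2)
    (hq2 : q ≠ 2) (c₁ c₂ c₃ d₁ d₂ d₃ : ℕ) (hc₁ : 1 ≤ c₁) (hc₂ : 1 ≤ c₂) (hc₃ : 1 ≤ c₃)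
    (ε₁ ε₂ ε₃ : ℤ) (hε₁ : ε₁ = 1 ∨ ε₁ = -1) (hε₂ : ε₂ = 1 ∨ ε₂ = -1) (hε₃ : ε₃ = 1 ∨ ε₃ = -1)
    (hy₁ : ((p ^ c₁ : ℕ) : ℤ) + ε₁ = 2 * ((q ^ d₁ : ℕ) : ℤ))
    (hy₂ : ((p ^ c₂ : ℕ) : ℤ) + ε₂ = 2 * ((q ^ d₂ : ℕ) : ℤ))
    (hy₃ : ((q ^ c₃ : ℕ) : ℤ) + ε₃ = 2 * ((p ^ d₃ : ℕ) : ℤ))
    (hrel : 1 + ε₁ * ((p ^ c₁ : ℕ) : ℤ) + ε₂ * ((p ^ c₂ : ℕ) : ℤ) + ε₃ * ((q ^ c₃ : ℕ) : ℤ) = 0) :
    p = 3 ∧ q = 5 ∧ c₁ = 1 ∧ c₂ = 1 ∧ c₃ = 1 ∧ ε₁ = -1 ∧ ε₂ = -1 ∧ ε₃ = 1 := by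
  push_cast at hy₁ hy₂ hy₃ hrel
  rcases le_total c₁ c₂ with hle | hle
  · exact bt1ar1b_le p q hp hq hpq hp2 c₁ c₂ c₃ d₁ d₂ d₃ hc₁ hc₃ hle ε₁ ε₂ ε₃ hε₁ hε₂ hε₃
      hy₁ hy₂ hy₃ hrel
  · have hrel' : 1 + ε₂ * (p : ℤ) ^ c₂ + ε₁ * (p : ℤ) ^ c₁ + ε₃ * (q : ℤ) ^ c₃ = 0 := by
      linarith
    obtain ⟨h1, h2, h3, h4, h5, h6, h7, h8⟩ :=
      bt1ar1b_le p q hp hq hpq hp2 c₂ c₁ c₃ d₂ d₁ d₃ hc₂ hc₃ hle ε₂ ε₁ ε₃ hε₂ hε₁ hε₃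
        hy₂ hy₁ hy₃ hrel'
    exact ⟨h1, h2, h4, h3, h5, h7, h6, h8⟩

end Cfsg.Agent.Helper27.BT1
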