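import Mathlib
import Cfsg.Agent.Lib.BT1.BT1Defs
import Cfsg.Agent.Lib.BT1.BT1AR1A
import Cfsg.Agent.Lib.BT1.BT1AR1B

/-!
# PIECE BT1-AR1C (S4501): the arithmetic of the principal `2`-block (assembly of AR1A + AR1B)

By `pq_dichotomy` each `x_i` is a power of `p` (with `y_i` a power of `q`) or a power of `q`
(with `y_i` a power of `p`).  Eight types:
* all three powers of `p`: the relation mod `p` reads `1 ≡ 0`: impossible; same for `q`.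
* two powers of `p` and one of `q` (three positions of the `q`-power): `ppq_core p q` after
  permuting the indices (the relation is symmetric) gives: the two `p`-powers are `3` with
  `ε = -1`, the `q`-power is `5` with `ε = +1`.
* two powers of `q` and one of `p`: `ppq_core q p` in the same way.
In every surviving case: `ε_i = -1 → x_i = 3`.
-/

set_option autoImplicit false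

namespace Cfsg.Agent.Helper27.BT1

/-- all three `x_i` powers of the same prime: impossible -/
theorem bt1ar1c_same (p : ℕ) (hp : p.Prime) (c₁ c₂ c₃ : ℕ) (hc₁ : 1 ≤ c₁) (hc₂ : 1 ≤ c₂)
    (hc₃ : 1 ≤ c₃) (ε₁ ε₂ ε₃ : ℤ)
    (hrel : 1 + ε₁ * ((p ^ c₁ : ℕ) : ℤ) + ε₂ * ((p ^ c₂ : ℕ) : ℤ) + ε₃ * ((p ^ c₃ : ℕ) : ℤ) = 0) :
    False := by
  have h1 : (p : ℤ) ∣ ((p ^ c₁ : ℕ) : ℤ) := by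
    push_cast
    exact dvd_pow_self _ (by omega)
  have h2 : (p : ℤ) ∣ ((p ^ c₂ : ℕ) : ℤ) := by
    push_cast
    exact dvd_pow_self _ (by omega)
  have h3 : (p : ℤ) ∣ ((p ^ c₃ : ℕ) : ℤ) := by
    push_cast
    exact dvd_pow_self _ (by omega)
  have h : (p : ℤ) ∣ 1 := by
    have e : (1 : ℤ) = -(ε₁ * ((p ^ c₁ : ℕ) : ℤ) + ε₂ * ((p ^ c₂ : ℕ) : ℤ) +
        ε₃ * ((p ^ c₃ : ℕ) : ℤ)) := by linarith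
    rw [e]
    exact (dvd_neg).mpr (dvd_add (dvd_add (Dvd.dvd.mul_left h1 _) (Dvd.dvd.mul_left h2 _))
      (Dvd.dvd.mul_left h3 _))
  have := Int.natCast_dvd_natCast.mp (by simpa using h : ((p : ℕ) : ℤ) ∣ ((1 : ℕ) : ℤ))
  exact hp.one_lt.ne' (Nat.dvd_one.mp this)

/-- the type `(p, p, q)` -/
theorem bt1ar1c_ppq (p q : ℕ) (hp : p.Prime) (hq : q.Prime) (hpq : p ≠ q) (hp2 : p ≠ 2)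
    (hq2 : q ≠ 2) (x₁ x₂ x₃ y₁ y₂ y₃ : ℕ) (ε₁ ε₂ ε₃ : ℤ)
    (hε₁ : ε₁ = 1 ∨ ε₁ = -1) (hε₂ : ε₂ = 1 ∨ ε₂ = -1) (hε₃ : ε₃ = 1 ∨ ε₃ = -1)
    (h₁ : ∃ c d : ℕ, 1 ≤ c ∧ x₁ = p ^ c ∧ y₁ = q ^ d)
    (h₂ : ∃ c d : ℕ, 1 ≤ c ∧ x₂ = p ^ c ∧ y₂ = q ^ d)
    (h₃ : ∃ c d : ℕ, 1 ≤ c ∧ x₃ = q ^ c ∧ y₃ = p ^ d)
    (hy₁ : (x₁ : ℤ) + ε₁ = 2 * y₁) (hy₂ : (x₂ : ℤ) + ε₂ = 2 * y₂) (hy₃ : (x₃ : ℤ) + ε₃ = 2 * y₃)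
    (hrel : 1 + ε₁ * x₁ + ε₂ * x₂ + ε₃ * x₃ = 0) :
    (ε₁ = -1 → x₁ = 3) ∧ (ε₂ = -1 → x₂ = 3) ∧ (ε₃ = -1 → x₃ = 3) := by
  obtain ⟨c₁, d₁, hc₁, rfl, rfl⟩ := h₁
  obtain ⟨c₂, d₂, hc₂, rfl, rfl⟩ := h₂
  obtain ⟨c₃, d₃, hc₃, rfl, rfl⟩ := h₃
  obtain ⟨rfl, rfl, rfl, rfl, rfl, rfl, rfl, rfl⟩ :=
    ppq_core p q hp hq hpq hp2 hq2 c₁ c₂ c₃ d₁ d₂ d₃ hc₁ hc₂ hc₃ ε₁ ε₂ ε₃ hε₁ hε₂ hε₃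
      hy₁ hy₂ hy₃ hrel
  refine ⟨fun _ => by norm_num, fun _ => by norm_num, fun h => ?_⟩
  norm_num at h

theorem arith_klein (p q : ℕ) (hp : p.Prime) (hq : q.Prime) (hpq : p ≠ q) (hp2 : p ≠ 2)
    (hq2 : q ≠ 2) (x₁ x₂ x₃ y₁ y₂ y₃ : ℕ) (ε₁ ε₂ ε₃ : ℤ)
    (hε₁ : ε₁ = 1 ∨ ε₁ = -1) (hε₂ : ε₂ = 1 ∨ ε₂ = -1) (hε₃ : ε₃ = 1 ∨ ε₃ = -1)
    (hx₁ : 1 < x₁) (hx₂ : 1 < x₂) (hx₃ : 1 < x₃)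
    (hxs₁ : PQ p q x₁) (hxs₂ : PQ p q x₂) (hxs₃ : PQ p q x₃)
    (hys₁ : PQ p q y₁) (hys₂ : PQ p q y₂) (hys₃ : PQ p q y₃)
    (hy₁ : (x₁ : ℤ) + ε₁ = 2 * y₁) (hy₂ : (x₂ : ℤ) + ε₂ = 2 * y₂) (hy₃ : (x₃ : ℤ) + ε₃ = 2 * y₃)
    (hrel : 1 + ε₁ * x₁ + ε₂ * x₂ + ε₃ * x₃ = 0) :
    (ε₁ = -1 → x₁ = 3) ∧ (ε₂ = -1 → x₂ = 3) ∧ (ε₃ = -1 → x₃ = 3) := by
  have D₁ := pq_dichotomy p q hp hq hpq x₁ y₁ ε₁ hε₁ hx₁ hxs₁ hys₁ hy₁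
  have D₂ := pq_dichotomy p q hp hq hpq x₂ y₂ ε₂ hε₂ hx₂ hxs₂ hys₂ hy₂
  have D₃ := pq_dichotomy p q hp hq hpq x₃ y₃ ε₃ hε₃ hx₃ hxs₃ hys₃ hy₃
  have hqp : q ≠ p := fun h => hpq h.symm
  rcases D₁ with D₁ | D₁ <;> rcases D₂ with D₂ | D₂ <;> rcases D₃ with D₃ | D₃
  · -- p p p
    exfalso
    obtain ⟨c₁, d₁, hc₁, rfl, rfl⟩ := D₁
    obtain ⟨c₂, d₂, hc₂, rfl, rfl⟩ := D₂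
    obtain ⟨c₃, d₃, hc₃, rfl, rfl⟩ := D₃
    exact bt1ar1c_same p hp c₁ c₂ c₃ hc₁ hc₂ hc₃ ε₁ ε₂ ε₃ hrel
  · -- p p q
    exact bt1ar1c_ppq p q hp hq hpq hp2 hq2 x₁ x₂ x₃ y₁ y₂ y₃ ε₁ ε₂ ε₃ hε₁ hε₂ hε₃ D₁ D₂ D₃
      hy₁ hy₂ hy₃ hrel
  · -- p q p : indices (1, 3, 2)
    have := bt1ar1c_ppq p q hp hq hpq hp2 hq2 x₁ x₃ x₂ y₁ y₃ y₂ ε₁ ε₃ ε₂ hε₁ hε₃ hε₂ D₁ D₃ D₂
      hy₁ hy₃ hy₂ (by linarith)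
    exact ⟨this.1, this.2.2, this.2.1⟩
  · -- p q q : `ppq_core q p` with indices (2, 3, 1)
    have := bt1ar1c_ppq q p hq hp hqp hq2 hp2 x₂ x₃ x₁ y₂ y₃ y₁ ε₂ ε₃ ε₁ hε₂ hε₃ hε₁ D₂ D₃ D₁
      hy₂ hy₃ hy₁ (by linarith)
    exact ⟨this.2.2, this.1, this.2.1⟩
  · -- q p p : indices (2, 3, 1)
    have := bt1ar1c_ppq p q hp hq hpq hp2 hq2 x₂ x₃ x₁ y₂ y₃ y₁ ε₂ ε₃ ε₁ hε₂ hε₃ hε₁ D₂ D₃ D₁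
      hy₂ hy₃ hy₁ (by linarith)
    exact ⟨this.2.2, this.1, this.2.1⟩
  · -- q p q : `ppq_core q p` with indices (1, 3, 2)
    have := bt1ar1c_ppq q p hq hp hqp hq2 hp2 x₁ x₃ x₂ y₁ y₃ y₂ ε₁ ε₃ ε₂ hε₁ hε₃ hε₂ D₁ D₃ D₂
      hy₁ hy₃ hy₂ (by linarith)
    exact ⟨this.1, this.2.2, this.2.1⟩
  · -- q q p
    exact bt1ar1c_ppq q p hq hp hqp hq2 hp2 x₁ x₂ x₃ y₁ y₂ y₃ ε₁ ε₂ ε₃ hε₁ hε₂ hε₃ D₁ D₂ D₃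
      hy₁ hy₂ hy₃ hrel
  · -- q q q
    exfalso
    obtain ⟨c₁, d₁, hc₁, rfl, rfl⟩ := D₁
    obtain ⟨c₂, d₂, hc₂, rfl, rfl⟩ := D₂
    obtain ⟨c₃, d₃, hc₃, rfl, rfl⟩ := D₃
    exact bt1ar1c_same q hq c₁ c₂ c₃ hc₁ hc₂ hc₃ ε₁ ε₂ ε₃ hrel

end Cfsg.Agent.Helper27.BT1
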