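import Mathlib

/-!
# PIECE BT1-AR2 (S4501): consecutive prime powers (pure arithmetic)

`p ≠ q` primes different from `3`, `1 ≤ k ≤ 2`, `1 ≤ l`, `u, w = ±1`, `1 + u q^l + w p^k = 0`.
Signs: `(u, w) = (1, -1)`: `p^k = q^l + 1`; `(-1, 1)`: `q^l = p^k + 1`; the other two are
impossible.  Consecutive numbers: one of `p, q` is `2`.
* `p = 2`: `p^k ∈ {2, 4}`, `q^l = p^k ± 1 ∈ {1, 3, 5}`, `q ≠ 3`, `q^l ≠ 1`: `k = 2`, `q = 5`, `l = 1`.
* `q = 2`: `p^k = 2^l ± 1`; `k = 2` is impossible: `p² - 1 = (p-1)(p+1) = 2^l` forces `p = 3`;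
  `p² + 1 = 2^l` is `≡ 2 (mod 4)`, so `l = 1`, `p = 1`.  Hence `k = 1`.
-/

set_option autoImplicit false

namespace Cfsg.Agent.Helper27.BT1

/-- a prime power `≥ 1` of a prime is at least two -/
theorem bt1ar2_two_le_pow (q l : ℕ) (hq : q.Prime) (hl : 1 ≤ l) : 2 ≤ q ^ l :=
  calc 2 ≤ q := hq.two_le
    _ = q ^ 1 := (pow_one q).symm
    _ ≤ q ^ l := Nat.pow_le_pow_right hq.pos hl

/-- an even prime power comes from the prime two -/
theorem bt1ar2_eq_two_of_even_pow (q l : ℕ) (hq : q.Prime) (h : q ^ l % 2 = 0) : q = 2 := by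
  have h2 : 2 ∣ q ^ l := Nat.dvd_of_mod_eq_zero h
  have h3 : 2 ∣ q := Nat.Prime.dvd_of_dvd_pow Nat.prime_two h2
  exact ((Nat.prime_dvd_prime_iff_eq Nat.prime_two hq).1 h3).symm

/-- a prime power equal to a prime `r` is `r ^ 1` -/
theorem bt1ar2_pow_eq_prime (q l r : ℕ) (hq : q.Prime) (hr : r.Prime) (hl : 1 ≤ l)
    (h : q ^ l = r) : q = r ∧ l = 1 := by
  have h1 : q ∣ r := by
    rw [← h]
    exact dvd_pow_self q (by omega)
  have h2 : q = r := (Nat.prime_dvd_prime_iff_eq hq hr).1 h1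
  refine ⟨h2, ?_⟩
  subst h2
  have h3 : q ^ l = q ^ 1 := by rw [h, pow_one]
  exact Nat.pow_right_injective hq.two_le h3

theorem arith_consecutive (p q k l : ℕ) (hp : p.Prime) (hq : q.Prime) (hpq : p ≠ q)
    (hp3 : p ≠ 3) (hq3 : q ≠ 3) (hk : 1 ≤ k) (hk2 : k ≤ 2) (hl : 1 ≤ l) (u w : ℤ)
    (hu : u = 1 ∨ u = -1) (hw : w = 1 ∨ w = -1)
    (hrel : 1 + u * ((q ^ l : ℕ) : ℤ) + w * ((p ^ k : ℕ) : ℤ) = 0) :
    (q = 2 ∧ k = 1) ∨ (p = 2 ∧ k = 2 ∧ q = 5 ∧ l = 1) := by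
  have hQ2 : 2 ≤ q ^ l := bt1ar2_two_le_pow q l hq hl
  have hP2 : 2 ≤ p ^ k := bt1ar2_two_le_pow p k hp hk
  obtain ⟨Q, hQ⟩ : ∃ Q, Q = q ^ l := ⟨_, rfl⟩
  obtain ⟨P, hP⟩ : ∃ P, P = p ^ k := ⟨_, rfl⟩
  rw [← hQ, ← hP] at hrel
  rw [← hQ] at hQ2
  rw [← hP] at hP2
  have hcases : P = Q + 1 ∨ Q = P + 1 := by
    rcases hu with rfl | rfl <;> rcases hw with rfl | rfl <;> omega
  have h2 : p = 2 ∨ q = 2 := by
    rcases Nat.mod_two_eq_zero_or_one P with h | h
    · left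
      exact bt1ar2_eq_two_of_even_pow p k hp (hP ▸ h)
    · right
      apply bt1ar2_eq_two_of_even_pow q l hq
      rw [← hQ]
      omega
  rcases h2 with rfl | rfl
  · -- `p = 2`
    right
    have hk' : k = 1 ∨ k = 2 := by omega
    rcases hk' with rfl | rfl
    · exfalso
      have hP' : P = 2 := by rw [hP]; norm_num
      have hQ3 : q ^ l = 3 := by omega
      exact hq3 (bt1ar2_pow_eq_prime q l 3 hq Nat.prime_three hl hQ3).1
    · have hP' : P = 4 := by rw [hP]; norm_num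
      have hQ35 : q ^ l = 3 ∨ q ^ l = 5 := by omega
      rcases hQ35 with h | h
      · exact absurd (bt1ar2_pow_eq_prime q l 3 hq Nat.prime_three hl h).1 hq3
      · obtain ⟨h5, hl1⟩ := bt1ar2_pow_eq_prime q l 5 hq (by norm_num) hl h
        exact ⟨rfl, rfl, h5, hl1⟩
  · -- `q = 2`
    left
    refine ⟨rfl, ?_⟩
    by_contra hk1
    have hk' : k = 2 := by omega
    subst hk'
    have hpodd : p % 2 = 1 := by
      rcases hp.eq_two_or_odd with h | h
      · exact absurd h hpq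
      · exact h
    have hPP : P = p * p := by rw [hP, pow_two]
    rcases hcases with h | h
    · -- `p * p = 2 ^ l + 1`: look modulo `3`
      have hp3' : p % 3 ≠ 0 := by
        intro h0
        have h3 : 3 ∣ p := Nat.dvd_of_mod_eq_zero h0
        exact hp3 ((Nat.prime_dvd_prime_iff_eq Nat.prime_three hp).1 h3).symm
      have hmod : p * p % 3 = 1 := by
        have h12 : p % 3 = 1 ∨ p % 3 = 2 := by omega
        rw [Nat.mul_mod]
        rcases h12 with h1 | h1 <;> rw [h1]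
      have h3Q : 3 ∣ 2 ^ l := by
        rw [← hQ]
        apply Nat.dvd_of_mod_eq_zero
        omega
      have h32 : 3 ∣ 2 := Nat.Prime.dvd_of_dvd_pow Nat.prime_three h3Q
      omega
    · -- `2 ^ l = p * p + 1`: look modulo `4`
      have hmod : p * p % 4 = 1 := by
        have h13 : p % 4 = 1 ∨ p % 4 = 3 := by omega
        rw [Nat.mul_mod]
        rcases h13 with h1 | h1 <;> rw [h1]
      have hl1 : l = 1 := by
        by_contra hl1
        have hl2 : 2 ≤ l := by omega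
        have h4 : 2 ^ 2 ∣ 2 ^ l := pow_dvd_pow 2 hl2
        rw [← hQ] at h4
        omega
      subst hl1
      have hQ' : Q = 2 := by rw [hQ]; norm_num
      have hp2 := hp.two_le
      nlinarith

end Cfsg.Agent.Helper27.BT1
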