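import Mathlib
import Cfsg.Agent.Lib.BT1.BT1Defs
import Cfsg.Agent.Lib.Helper24.CharAbelian
import Cfsg.Agent.Lib.Helper24.CharBasic

/-!
# PIECE BT1-PERF (S4501): a non-abelian simple group is perfect – three consequences
(proved by helper2)

`G` simple and non-abelian, so `commutator G = ⊤` (the commutator subgroup is normal and
non-trivial).

* `no_linear`: an irreducible character of degree `1` is the principal character (a linear
  character is a hom `G →* ℂˣ`, trivial on commutators; see `Helper24.CharAbelian`: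
  `charDegree_eq_one_iff`, `card_linear_characters` (= index of the commutator subgroup = 1)).
* `det_eq_one`: `g ↦ LinearMap.det (ρ g)` is a monoid hom into the commutative monoid `ℂ`, so it
  is `1` on commutators, hence on `commutator G = ⊤` (`Subgroup.closure_induction` on
  `commutatorSet G`, or `Abelianization`).
* `faithful`: for a non-principal irreducible `χ = ρ.character`, `{g | χ g = χ 1} = ker ρ`
  (`Helper24.char_eq_finrank_iff`) is a normal subgroup; it is not `⊤` (else `ρ = 1`, irreducible
  ⇒ dimension `1` ⇒ `χ` principal), so it is `⊥`.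
-/

set_option autoImplicit false

namespace Cfsg.Agent.Helper27.BT1

open Cfsg

universe u

variable {G : Type u} [Group G] [Finite G]

theorem commutator_eq_top [IsSimpleGroup G] (hna : ∃ x y : G, x * y ≠ y * x) :
    commutator G = ⊤ := by
  have hn : (commutator G).Normal := inferInstance
  rcases hn.eq_bot_or_eq_top with h | h
  · exfalso
    obtain ⟨x, y, hxy⟩ := hna
    apply hxy
    have hmem : x * y * x⁻¹ * y⁻¹ ∈ commutator G := by
      rw [commutator_def]
      exact Subgroup.commutator_mem_commutator (Subgroup.mem_top x) (Subgroup.mem_top y)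
    rw [h, Subgroup.mem_bot] at hmem
    calc x * y = (x * y * x⁻¹ * y⁻¹) * (y * x) := by group
      _ = y * x := by rw [hmem, one_mul]
  · exact h

theorem no_linear [IsSimpleGroup G] (hna : ∃ x y : G, x * y ≠ y * x) (χ : IrrCharacter G)
    (h1 : charDegree (χ : G → ℂ) = 1) : (χ : G → ℂ) = fun _ => 1 := by
  have hcard : Nat.card {χ : IrrCharacter G // charDegree (χ : G → ℂ) = 1} = 1 := by
    rw [Cfsg.Agent.Helper24.card_linear_characters', commutator_eq_top hna, Subgroup.index_top]
  obtain ⟨hsub, -⟩ := Nat.card_eq_one_iff_unique.mp hcard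
  have hone : IsIrrCharacter G (fun _ => (1 : ℂ)) := Cfsg.Agent.Helper24.isIrrCharacter_one
  have hdeg : charDegree ((⟨fun _ => (1 : ℂ), hone⟩ : IrrCharacter G) : G → ℂ) = 1 :=
    (Cfsg.Agent.Helper24.charDegree_eq_one_iff hone).mpr rfl
  have := hsub.elim (⟨χ, h1⟩ : {χ : IrrCharacter G // charDegree (χ : G → ℂ) = 1})
    ⟨⟨fun _ => (1 : ℂ), hone⟩, hdeg⟩
  have h2 := congrArg (fun t : {χ : IrrCharacter G // charDegree (χ : G → ℂ) = 1} =>
    ((t : IrrCharacter G) : G → ℂ)) this
  exact h2

theorem det_eq_one [IsSimpleGroup G] (hna : ∃ x y : G, x * y ≠ y * x) (n : ℕ)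
    (ρ : Representation ℂ G (Fin n → ℂ)) (g : G) : LinearMap.det (ρ g) = 1 := by
  let f : G →* ℂ := (LinearMap.det : Module.End ℂ (Fin n → ℂ) →* ℂ).comp ρ
  let f' : G →* ℂˣ := MonoidHom.toHomUnits f
  have hker : commutator G ≤ f'.ker := Abelianization.commutator_subset_ker f'
  have hg : g ∈ f'.ker := hker (by rw [commutator_eq_top hna]; exact Subgroup.mem_top g)
  have h1 : f' g = 1 := hg
  have h2 : ((f' g : ℂˣ) : ℂ) = 1 := by rw [h1]; rfl
  exact h2

theorem faithful [IsSimpleGroup G] (χ : IrrCharacter G) (hχ : (χ : G → ℂ) ≠ fun _ => 1) (g : G)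
    (hg : (χ : G → ℂ) g = (χ : G → ℂ) 1) : g = 1 := by
  obtain ⟨n, ρ, hirr, hρ⟩ := χ.2
  have hgρ : ρ g = 1 := by
    apply (Cfsg.Agent.Helper24.char_eq_finrank_iff ρ g).mp
    rw [hρ, hg, ← hρ, Representation.char_one]
  set K : Subgroup G := (ρ : G →* Module.End ℂ (Fin n → ℂ)).ker with hK
  have hKn : K.Normal := MonoidHom.normal_ker _
  have hgK : g ∈ K := hgρ
  rcases hKn.eq_bot_or_eq_top with h | h
  · rw [h, Subgroup.mem_bot] at hgK
    exact hgK
  · exfalso
    apply hχ
    have htriv : ∀ x : G, ρ x = 1 := by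
      intro x
      have : x ∈ K := by rw [h]; exact Subgroup.mem_top x
      exact this
    rw [Cfsg.Agent.Helper24.isIrreducible_iff] at hirr
    obtain ⟨hnt, hU⟩ := hirr
    obtain ⟨v, hv⟩ := exists_ne (0 : Fin n → ℂ)
    have hspan : Submodule.span ℂ {v} = ⊤ := by
      rcases hU (Submodule.span ℂ {v}) (by
        intro x w hw
        rw [htriv x]
        exact hw) with h0 | h1
      · exfalso
        apply hv
        have : v ∈ Submodule.span ℂ {v} := Submodule.mem_span_singleton_self v
        rw [h0] at this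
        exact (Submodule.mem_bot ℂ).mp this
      · exact h1
    have hrank : Module.finrank ℂ (Fin n → ℂ) = 1 := by
      rw [← finrank_top ℂ (Fin n → ℂ), ← hspan]
      exact finrank_span_singleton hv
    funext x
    rw [← hρ, Representation.character, htriv x, LinearMap.trace_one, hrank]
    simp

end Cfsg.Agent.Helper27.BT1
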