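import Mathlib
import Cfsg.Agent.Lib.BT1.BT1Defs
import Cfsg.Agent.Lib.BT1.BT1PERF
import Cfsg.Agent.S0142
import Cfsg.Agent.Lib.Helper1.CharScalar
import Cfsg.Agent.Lib.Helper12.ITOPDVD

/-!
# PIECE BT1-BV (S4501): Burnside's vanishing argument on an abelian Sylow subgroup

`G` simple non-abelian, `Q` an abelian Sylow `p`-subgroup, `χ` irreducible of degree `p^k`,
`k ≥ 1`.  Then `|Q| ∣ p^k`.

PROOF.  Let `1 ≠ x ∈ Q`.  `Q ≤ C_G(x)`, so the class size `|G : C_G(x)|` divides `|G : Q|`, which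
is prime to `p`, hence prime to `χ(1) = p^k`.  `S0142.result ρ x _` (with `χ = ρ.character`,
`ρ` irreducible on `Fin n → ℂ`, `n = p^k`): `χ x = 0` or `‖χ x‖ = χ 1`.  In the second case `ρ x` is
a scalar (`Cfsg.Agent.Helper1.rep_scalar_of_norm_char_eq`), so `ρ (x * g * x⁻¹ * g⁻¹) = 1` for all `g`
(`rep_commutator_eq_one_of_scalar`), and `ρ` is faithful (`faithful`; `χ` is not principal because
`χ 1 = p^k > 1`), so `x ∈ Z(G) = 1` (`G` simple non-abelian: the centre is normal and `≠ ⊤`):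
contradiction.  So `χ` vanishes on `Q ∖ {1}`, and then `|Q| ∣ χ(1)`: the multiplicity of the
trivial character in `χ|_Q` is `χ(1)/|Q|` (`Aw_nat`).
-/

set_option autoImplicit false

namespace Cfsg.Agent.Helper27.BT1

open Cfsg

universe u

variable {G : Type u} [Group G] [Finite G]

omit [Finite G] in
/-- in a simple non-abelian group an element all of whose commutators are trivial is trivial -/
theorem bt1bv_center_trivial [IsSimpleGroup G] (hna : ∃ x y : G, x * y ≠ y * x) (x : G)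
    (hx : ∀ g : G, x * g * x⁻¹ * g⁻¹ = 1) : x = 1 := by
  have hxc : x ∈ Subgroup.center G := by
    rw [Subgroup.mem_center_iff]
    intro g
    have h := hx g
    calc g * x = (x * g * x⁻¹ * g⁻¹)⁻¹ * (x * g) := by group
      _ = x * g := by rw [h, inv_one, one_mul]
  have hcn : (Subgroup.center G).Normal := inferInstance
  rcases hcn.eq_bot_or_eq_top with h | h
  · rw [h, Subgroup.mem_bot] at hxc
    exact hxc
  · exfalso
    obtain ⟨a, b, hab⟩ := hna
    have ha : a ∈ Subgroup.center G := by rw [h]; exact Subgroup.mem_top a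
    rw [Subgroup.mem_center_iff] at ha
    exact hab (ha b).symm

theorem burnside_vanish [IsSimpleGroup G] (hna : ∃ x y : G, x * y ≠ y * x) (p : ℕ)
    [Fact p.Prime] (Q : Sylow p G) (hQ : ∀ x ∈ (Q : Subgroup G), ∀ y ∈ (Q : Subgroup G), x * y = y * x)
    (χ : IrrCharacter G) (k : ℕ) (hk : 1 ≤ k) (hdeg : charDegree (χ : G → ℂ) = p ^ k) :
    Nat.card (Q : Subgroup G) ∣ p ^ k := by
  classical
  obtain ⟨hfin⟩ := nonempty_fintype G
  have hp : p.Prime := Fact.out
  -- `χ 1 = p ^ k`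
  have hχ1 : (χ : G → ℂ) 1 = ((p ^ k : ℕ) : ℂ) := by
    rw [Cfsg.Agent.Helper24.irr_one_eq_charDegree χ.2, hdeg]
  -- `χ` is not principal
  have hχne : (χ : G → ℂ) ≠ fun _ => 1 := by
    intro h
    have h1 : (χ : G → ℂ) 1 = 1 := by rw [h]
    rw [hχ1] at h1
    have h2 : p ^ k = 1 := by exact_mod_cast h1
    have h3 : 2 ≤ p ^ k :=
      calc 2 ≤ p := hp.two_le
        _ = p ^ 1 := (pow_one p).symm
        _ ≤ p ^ k := Nat.pow_le_pow_right hp.pos hk
    omega
  -- vanishing on `Q ∖ {1}`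
  have hvan : ∀ x ∈ (Q : Subgroup G), x ≠ 1 → (χ : G → ℂ) x = 0 := by
    intro x hxQ hx1
    obtain ⟨n, ρ, hρ, hρχ⟩ := χ.2
    have hfr : Module.finrank ℂ (Fin n → ℂ) = n := by simp
    have hn : n = p ^ k := by
      have h1 : ρ.character 1 = (n : ℂ) := by rw [Representation.char_one, hfr]
      rw [hρχ, hχ1] at h1
      exact_mod_cast h1.symm
    have hQle : (Q : Subgroup G) ≤ Subgroup.centralizer ({x} : Set G) := by
      intro y hy
      rw [Subgroup.mem_centralizer_iff]
      intro z hz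
      rw [Set.mem_singleton_iff] at hz
      rw [hz]
      exact hQ x hxQ y hy
    have hcop : Nat.Coprime (Module.finrank ℂ (Fin n → ℂ))
        (Subgroup.centralizer ({x} : Set G)).index := by
      rw [hfr, hn]
      apply Nat.Coprime.pow_left
      rw [Nat.Prime.coprime_iff_not_dvd hp]
      intro hd
      exact Q.not_dvd_index (hd.trans (Subgroup.index_dvd_of_le hQle))
    have hirr : ρ.IsIrreducible := hρ
    rcases Cfsg.Agent.S0142.result ρ x hcop with h0 | hnorm
    · rw [← hρχ]; exact h0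
    · exfalso
      obtain ⟨c, hc⟩ := Cfsg.Agent.Helper1.rep_scalar_of_norm_char_eq ρ x hnorm
      apply hx1
      apply bt1bv_center_trivial hna
      intro g
      apply faithful χ hχne
      rw [← hρχ]
      show LinearMap.trace ℂ _ (ρ (x * g * x⁻¹ * g⁻¹)) = LinearMap.trace ℂ _ (ρ 1)
      rw [Cfsg.Agent.Helper1.rep_commutator_eq_one_of_scalar ρ hc g, map_one ρ]
  -- the multiplicity of the principal character of `Q`
  have hχchar : IsCharacter G (χ : G → ℂ) :=
    Cfsg.Agent.Helper24.isCharacter_of_isIrrCharacter χ.2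
  obtain ⟨hirrfin⟩ : Nonempty (Fintype (IrrCharacter G)) := ⟨Cfsg.Agent.Helper24.irrFintype⟩
  obtain ⟨a, ha⟩ := Cfsg.Agent.Helper10.BR996.Aw_nat (Q : Subgroup G) hχchar
  have hps : Cfsg.Agent.Helper10.BR996.psum (Q : Subgroup G) (χ : G → ℂ) = (χ : G → ℂ) 1 := by
    unfold Cfsg.Agent.Helper10.BR996.psum
    rw [Finset.sum_eq_single (1 : G)]
    · rw [if_pos (Subgroup.one_mem _)]
    · intro z _ hz
      split_ifs with hzQ
      · exact hvan z hzQ hz
      · rfl
    · intro h
      exact absurd (Finset.mem_univ _) h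
  unfold Cfsg.Agent.Helper10.BR996.Aw at ha
  rw [hps, hχ1] at ha
  have hcQ : (Nat.card (Q : Subgroup G) : ℂ) ≠ 0 := by
    exact_mod_cast (Nat.card_pos (α := (Q : Subgroup G))).ne'
  have h1 : ((p ^ k : ℕ) : ℂ) = ((Nat.card (Q : Subgroup G) * a : ℕ) : ℂ) := by
    rw [Nat.cast_mul, ← ha, ← mul_assoc, mul_inv_cancel₀ hcQ, one_mul]
  exact ⟨a, by exact_mod_cast h1⟩

end Cfsg.Agent.Helper27.BT1
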