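import Mathlib
import Cfsg.Agent.Lib.Helper24.DetTrace

/-!
# PIECE BT1-LA (S4501): a linear-algebra lemma in dimension `3`

`V` complex of dimension `3`; `A` an involution, `B` of odd order `m` commuting with `A`,
`det B = 1`, and `tr (A B^i) = -1` for all `i` (so `tr A = -1` at `i = 0`).  Then `tr B = 3`.

PROOF.  `E := (1/2) • (1 + A)` is idempotent (`A * A = 1`), `tr E = (3 - 1)/2 = 1`, so `range E`
has dimension `1` (trace of a projection = rank: `LinearMap.IsProj.trace` /
`LinearMap.trace_eq_finrank_of_isProj`-style; or `Helper24.finrank_range_specIdem`).  `B` commutes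
with `E`, so `B` maps the line `range E` to itself: there is `c : ℂ` with `B * E = c • E`, hence
`B^i * E = c^i • E` and `tr (B^i * E) = c^i`.  From `A = 2 • E - 1`:
`-1 = tr (A * B^i) = 2 c^i - tr (B^i)`, i.e. `tr (B^i) = 2 c^i + 1` for all `i`.
`B^m = 1` gives `c^m • E = E`, `E ≠ 0`, so `c^m = 1`.
Compare `B` with the diagonal endomorphism `B' = diag(c, c, 1)` of `Fin 3 → ℂ`
(`B'^m = 1`, `tr (B'^i) = 2 c^i + 1`, `det B' = c²`): by
`Cfsg.Agent.Helper24.det_eq_of_trace_pow_eq` (check its namespace in `Lib/Helper24/DetTrace.lean`)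
`det B = c²`.  So `c² = 1` and `c^m = 1` with `m` odd: `c = 1`, and `tr B = 2 c + 1 = 3`.
-/

set_option autoImplicit false

namespace Cfsg.Agent.Helper27.BT1

theorem la_three {V : Type*} [AddCommGroup V] [Module ℂ V] [FiniteDimensional ℂ V]
    (h3 : Module.finrank ℂ V = 3) (A B : Module.End ℂ V) (hA : A * A = 1) (hAB : A * B = B * A)
    (m : ℕ) (hm : Odd m) (hB : B ^ m = 1) (hdet : LinearMap.det B = 1)
    (htr : ∀ i : ℕ, LinearMap.trace ℂ V (A * B ^ i) = -1) : LinearMap.trace ℂ V B = 3 := by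
  have hm0 : 0 < m := hm.pos
  -- the idempotent
  obtain ⟨E, hEdef⟩ : ∃ E : Module.End ℂ V, E = (2 : ℂ)⁻¹ • (1 + A) := ⟨_, rfl⟩
  have hAE : A = (2 : ℂ) • E - 1 := by
    rw [hEdef, smul_smul]; norm_num
  have hEE : E * E = E := by
    rw [hEdef, smul_mul_smul_comm, mul_add, add_mul, add_mul, hA, one_mul, mul_one, one_mul]
    rw [show (1 : Module.End ℂ V) + A + (A + 1) = (2 : ℂ) • (1 + A) by rw [two_smul]; abel]
    rw [smul_smul]; norm_num
  have hEidem : IsIdempotentElem E := hEE
  have htrA : LinearMap.trace ℂ V A = -1 := by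
    have := htr 0
    rwa [pow_zero, mul_one] at this
  have htrE : LinearMap.trace ℂ V E = 1 := by
    rw [hEdef, map_smul, map_add, LinearMap.trace_one, h3, htrA]
    norm_num
  have hrank : Module.finrank ℂ (LinearMap.range E) = 1 := by
    have h := (LinearMap.IsIdempotentElem.isProj_range E hEidem).trace
    rw [htrE] at h
    exact_mod_cast h.symm
  have hBE : B * E = E * B := by
    rw [hEdef, mul_smul_comm, smul_mul_assoc, mul_add, add_mul, mul_one, one_mul, hAB]
  -- the eigenvalue c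
  obtain ⟨⟨v₀, hv₀mem⟩, hv₀ne, hv₀span⟩ := finrank_eq_one_iff'.mp hrank
  have hv₀ne' : v₀ ≠ 0 := by
    intro h
    apply hv₀ne
    exact Subtype.ext h
  have hBv₀ : B v₀ ∈ LinearMap.range E := by
    obtain ⟨w, hw⟩ := hv₀mem
    refine ⟨B w, ?_⟩
    have := congrArg (fun f : Module.End ℂ V => f w) hBE
    simp only [Module.End.mul_apply] at this
    rw [← hw, this]
  obtain ⟨c, hc⟩ := hv₀span ⟨B v₀, hBv₀⟩
  have hc' : c • v₀ = B v₀ := congrArg Subtype.val hc
  have hBEc : B * E = c • E := by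
    apply LinearMap.ext
    intro w
    obtain ⟨d, hd⟩ := hv₀span ⟨E w, ⟨w, rfl⟩⟩
    have hd' : d • v₀ = E w := congrArg Subtype.val hd
    rw [Module.End.mul_apply, LinearMap.smul_apply, ← hd', map_smul, ← hc', smul_comm]
  have hBiE : ∀ i : ℕ, B ^ i * E = c ^ i • E := by
    intro i
    induction i with
    | zero => simp
    | succ i ih =>
      rw [pow_succ, mul_assoc, hBEc, mul_smul_comm, ih, smul_smul, pow_succ, mul_comm]
  have hEcomm : ∀ i : ℕ, E * B ^ i = B ^ i * E := by
    intro i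
    induction i with
    | zero => simp
    | succ i ih =>
      rw [pow_succ, ← mul_assoc, ih, mul_assoc, ← hBE, mul_assoc]
  have htrBi : ∀ i : ℕ, LinearMap.trace ℂ V (B ^ i) = 2 * c ^ i + 1 := by
    intro i
    have h := htr i
    rw [hAE, sub_mul, one_mul, smul_mul_assoc, hEcomm i, hBiE i, map_sub, map_smul, map_smul,
      htrE] at h
    simp only [smul_eq_mul, mul_one] at h
    linear_combination -h
  -- c^m = 1
  have hE0 : E ≠ 0 := by
    intro h
    rw [h, map_zero] at htrE
    exact zero_ne_one htrE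
  have hcm : c ^ m = 1 := by
    have h := hBiE m
    rw [hB, one_mul] at h
    by_contra hne
    apply hE0
    have h2 : (c ^ m - 1) • E = 0 := by rw [sub_smul, one_smul, ← h, sub_self]
    rcases smul_eq_zero.mp h2 with h3 | h3
    · exact absurd (sub_eq_zero.mp h3) hne
    · exact h3
  -- the comparison endomorphism
  obtain ⟨B', hB'def⟩ : ∃ B' : Module.End ℂ (Fin 3 → ℂ),
      B' = Matrix.toLin' (Matrix.diagonal ![c, c, 1]) := ⟨_, rfl⟩
  have hB'pow : ∀ i : ℕ, B' ^ i = Matrix.toLin' (Matrix.diagonal ![c ^ i, c ^ i, 1]) := by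
    intro i
    rw [hB'def, ← Matrix.toLin'_pow, Matrix.diagonal_pow]
    congr 2
    ext j
    fin_cases j <;> simp
  have hB'm : B' ^ m = 1 := by
    rw [hB'pow m, hcm]
    have : (Matrix.diagonal ![(1 : ℂ), 1, 1] : Matrix (Fin 3) (Fin 3) ℂ) = 1 := by
      ext j k
      fin_cases j <;> fin_cases k <;> simp
    rw [this, Matrix.toLin'_one]
    rfl
  have htrB' : ∀ i : ℕ, LinearMap.trace ℂ V (B ^ i) = LinearMap.trace ℂ (Fin 3 → ℂ) (B' ^ i) := by
    intro i
    rw [htrBi i, hB'pow i, Matrix.trace_toLin'_eq, Matrix.trace_diagonal, Fin.sum_univ_three]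
    simp
    ring
  have hdetB' : LinearMap.det B' = c ^ 2 := by
    rw [hB'def, LinearMap.det_toLin', Matrix.det_diagonal, Fin.prod_univ_three]
    simp
    ring
  have hdetc : c ^ 2 = 1 := by
    rw [← hdetB', ← Cfsg.Agent.Helper24.DetTrace.det_eq_of_trace_pow_eq B B' hm0 hB hB'm htrB', hdet]
  have hc1 : c = 1 := by
    obtain ⟨k, hk⟩ := hm
    rw [hk, pow_succ, pow_mul, hdetc, one_pow, one_mul] at hcm
    exact hcm
  have := htrBi 1
  rw [pow_one, pow_one, hc1] at this
  rw [this]; norm_num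

end Cfsg.Agent.Helper27.BT1
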