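import Mathlib
import Cfsg.Agent.Lib.BT1.BT1Defs
import Cfsg.Agent.Lib.BT1.BT1PERF
import Cfsg.Agent.Lib.BT1.BT1LA
import Cfsg.Agent.Lib.Helper24.CharBasic
import Cfsg.Agent.Lib.Helper23.CharValues

/-!
# PIECE BT1-CJ2 (S4501): the centralizer of an involution has no odd-order elements

`G` simple non-abelian, `χ` irreducible of degree `3` with `χ g = -1` for EVERY `g` of even order.
`J` an involution, `h ∈ C_G(J)` of odd order.  Then `h = 1`.  (Proved by helper4.)

PROOF.  `χ = ρ.character` with `ρ : Representation ℂ G (Fin n → ℂ)`; `n = 3` since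
`χ 1 = n` (`Helper23.character_one_fin`, `charDegree_character_fin`).  `A := ρ J`, `B := ρ h`,
`m := orderOf h`.  `A * A = ρ (J * J) = 1`; `A * B = B * A` (`h` commutes with `J`); `B ^ m = 1`;
`det B = 1` (`det_eq_one hna`).  For every `i`, `J * h ^ i` has even order, so
`tr (A * B^i) = χ (J * h^i) = -1`.
`la_three` gives `tr B = 3`, i.e. `χ h = χ 1`; `χ` is not principal (`χ J = -1 ≠ 1`), so
`faithful χ _ h _ : h = 1`.
-/

set_option autoImplicit false

namespace Cfsg.Agent.Helper27.BT1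

open Cfsg

universe u

variable {G : Type u} [Group G] [Finite G]

omit [Finite G] in
/-- an involution times a commuting element of odd order has even order -/
theorem bt1cj2_even_order (J y : G) (hJ : orderOf J = 2) (hc : Commute J y) (m : ℕ) (hm : Odd m)
    (hy : y ^ m = 1) : 2 ∣ orderOf (J * y) := by
  have hJ2 : J ^ 2 = 1 := by rw [← hJ]; exact pow_orderOf_eq_one J
  have hJ1 : J ≠ 1 := by
    intro h1
    rw [h1, orderOf_one] at hJ
    omega
  rcases Nat.even_or_odd (orderOf (J * y)) with he | ho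
  · exact even_iff_two_dvd.mp he
  · exfalso
    set k := orderOf (J * y) with hk
    have h1 : (J * y) ^ (k * m) = 1 := by rw [pow_mul, hk, pow_orderOf_eq_one, one_pow]
    rw [hc.mul_pow] at h1
    have h2 : y ^ (k * m) = 1 := by rw [mul_comm, pow_mul, hy, one_pow]
    rw [h2, mul_one] at h1
    obtain ⟨t, ht⟩ := ho.mul hm
    rw [ht, pow_succ, pow_mul, hJ2, one_pow, one_mul] at h1
    exact hJ1 h1

theorem odd_centralizer_trivial [IsSimpleGroup G] (hna : ∃ x y : G, x * y ≠ y * x)
    (χ : IrrCharacter G) (hdeg : charDegree (χ : G → ℂ) = 3)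
    (hval : ∀ g : G, 2 ∣ orderOf g → (χ : G → ℂ) g = -1) (J : G) (hJ : orderOf J = 2)
    (h : G) (hh : h * J = J * h) (hodd : Odd (orderOf h)) : h = 1 := by
  obtain ⟨n, ρ, _, hχ⟩ := χ.2
  have hn : n = 3 := by
    have h1 := Cfsg.Agent.Helper23.charDegree_character_fin n ρ
    rw [hχ, hdeg] at h1
    exact h1.symm
  subst hn
  have hJ2 : J ^ 2 = 1 := by rw [← hJ]; exact pow_orderOf_eq_one J
  set m := orderOf h with hm
  have h3 : Module.finrank ℂ (Fin 3 → ℂ) = 3 := Module.finrank_fin_fun ℂ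
  have hA : ρ J * ρ J = 1 := by
    rw [← map_mul, ← pow_two, hJ2, map_one]
  have hAB : ρ J * ρ h = ρ h * ρ J := by
    rw [← map_mul, ← map_mul, hh]
  have hB : ρ h ^ m = 1 := by
    rw [← map_pow, hm, pow_orderOf_eq_one, map_one]
  have hdet : LinearMap.det (ρ h) = 1 := det_eq_one hna 3 ρ h
  have hchar : ∀ g : G, LinearMap.trace ℂ (Fin 3 → ℂ) (ρ g) = (χ : G → ℂ) g := by
    intro g
    rw [← hχ]
    rfl
  have hcomm : ∀ i : ℕ, Commute J (h ^ i) := by
    intro i
    exact (Commute.pow_right (show Commute J h from hh.symm) i)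
  have htr : ∀ i : ℕ, LinearMap.trace ℂ (Fin 3 → ℂ) (ρ J * ρ h ^ i) = -1 := by
    intro i
    rw [← map_pow, ← map_mul, hchar]
    apply hval
    apply bt1cj2_even_order J (h ^ i) hJ (hcomm i) m hodd
    rw [← pow_mul, mul_comm, pow_mul, hm, pow_orderOf_eq_one, one_pow]
  have h4 := la_three h3 (ρ J) (ρ h) hA hAB m hodd hB hdet htr
  have hχJ : (χ : G → ℂ) J = -1 := hval J (by rw [hJ])
  have hne : (χ : G → ℂ) ≠ fun _ => 1 := by
    intro h5
    have h6 := congrFun h5 J
    rw [hχJ] at h6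
    norm_num at h6
  apply faithful χ hne h
  rw [← hchar h, h4, ← hχ, Cfsg.Agent.Helper23.character_one_fin]
  norm_num

end Cfsg.Agent.Helper27.BT1
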