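import Mathlib
import Cfsg.Agent.Lib.BT1.BT1Defs

/-!
# PIECE BT1-ORDZ (S4501): Brauer's order formula over `ℤ`

Clear denominators in `D.hord` (a statement in `ℚ`).  The denominators are non-zero: `x₂ + 1 > 0`,
`x₃ + ε ≥ 2 - 1 > 0`, `x₄ - 1 > 0` (hypotheses `1 < x₃`, `1 < x₄`), and `Nat.card _ ≠ 0`.
`field_simp` at `D.hord` (after `push_cast`), then `exact_mod_cast`.
-/

set_option autoImplicit false

namespace Cfsg.Agent.Helper27.BT1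

open Cfsg

universe u

variable {G : Type u} [Group G] [Finite G]

theorem bt1ordz_aux (N x2 x3 x4 cJ cP : ℕ) (ε : ℤ) (h3 : 1 < x3) (h4 : 1 < x4)
    (hε : ε = 1 ∨ ε = -1) (hcP : (cP : ℚ) ≠ 0)
    (hord : (N : ℚ) = 8 * (((x2 : ℚ) * x3 * x4) / ((x2 + (1 : ℤ)) * (x3 + ε) * (x4 + (-1 : ℤ))))
      * (cJ : ℚ) ^ 3 / (cP : ℚ) ^ 2) :
    (N : ℤ) * (((x2 : ℤ) + 1) * ((x3 : ℤ) + ε) * ((x4 : ℤ) - 1)) * (cP : ℤ) ^ 2
      = 8 * ((x2 : ℤ) * x3 * x4) * (cJ : ℤ) ^ 3 := by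
  have e2 : ((x2 : ℚ) + 1) ≠ 0 := by positivity
  have e3 : ((x3 : ℚ) + (ε : ℚ)) ≠ 0 := by
    have h3' : (2 : ℚ) ≤ x3 := by exact_mod_cast h3
    rcases hε with rfl | rfl
    · push_cast; linarith
    · push_cast; linarith
  have e4 : ((x4 : ℚ) + -1) ≠ 0 := by
    have h4' : (2 : ℚ) ≤ x4 := by exact_mod_cast h4
    linarith
  have key : ((N : ℚ)) * (((x2 : ℚ) + 1) * ((x3 : ℚ) + ε) * ((x4 : ℚ) + -1)) * (cP : ℚ) ^ 2
      = 8 * ((x2 : ℚ) * x3 * x4) * (cJ : ℚ) ^ 3 := by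
    rw [hord]
    push_cast
    field_simp
  have : (((N : ℤ) * (((x2 : ℤ) + 1) * ((x3 : ℤ) + ε) * ((x4 : ℤ) - 1)) * (cP : ℤ) ^ 2 : ℤ) : ℚ)
      = ((8 * ((x2 : ℤ) * x3 * x4) * (cJ : ℤ) ^ 3 : ℤ) : ℚ) := by
    push_cast
    rw [sub_eq_add_neg]
    exact key
  exact_mod_cast this

theorem ord_int (D : KData G) (h3 : 1 < charDegree (D.ζ₃ : G → ℂ))
    (h4 : 1 < charDegree (D.ζ₄ : G → ℂ)) :
    (Nat.card G : ℤ) * (((charDegree (D.ζ₂ : G → ℂ) : ℤ) + 1)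
        * ((charDegree (D.ζ₃ : G → ℂ) : ℤ) + D.ε) * ((charDegree (D.ζ₄ : G → ℂ) : ℤ) - 1))
        * (Nat.card (Subgroup.centralizer ((D.P : Subgroup G) : Set G)) : ℤ) ^ 2
      = 8 * ((charDegree (D.ζ₂ : G → ℂ) : ℤ) * charDegree (D.ζ₃ : G → ℂ)
        * charDegree (D.ζ₄ : G → ℂ))
        * (Nat.card (Subgroup.centralizer ({D.J} : Set G)) : ℤ) ^ 3 := by
  have hcP : (Nat.card (Subgroup.centralizer ((D.P : Subgroup G) : Set G)) : ℚ) ≠ 0 := by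
    exact_mod_cast (Nat.card_pos (α := Subgroup.centralizer ((D.P : Subgroup G) : Set G))).ne'
  exact bt1ordz_aux _ _ _ _ _ _ _ h3 h4 D.hε hcP D.hord

end Cfsg.Agent.Helper27.BT1
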