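import Mathlib
import Cfsg.Agent.Lib.BT1.BT1Defs
import Cfsg.Agent.Lib.BT1.BT1PERF
import Cfsg.Agent.Lib.BT1.BT1ORDZ
import Cfsg.Agent.Lib.BT1.BT1AR1C
import Cfsg.Agent.Lib.Helper24.CharIntegral

/-!
# PIECE BT1-DEG3 (S4501): `ζ₄` has degree `3`

`G` simple non-abelian of order `4 p^a q^b` (`p ≠ q` odd primes), `D : KData G`.  Put
`x₂ x₃ x₄` = degrees of `D.ζ₂ D.ζ₃ D.ζ₄`, `(ε₁, ε₂, ε₃) = (1, D.ε, -1)`.
* `x_i > 1`: irreducible degrees are `≥ 1`, and `= 1` would make `ζ_i` principal (`no_linear`),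
  against `D.h2 D.h3 D.h4`.
* `x_i` odd (`D.hd2 D.hd3 D.hd4`: `4 ∣ x_i - ε_i`) and `x_i ∣ |G| = 4 p^a q^b`
  (`Cfsg.Agent.Helper24.charDegree_dvd_card`), so `PQ p q x_i`.
* `x_i + ε_i ≡ 2 ε_i (mod 4)` and `x_i + ε_i > 0`: so `x_i + ε_i = 2 y_i` with `y_i : ℕ` odd.
* `PQ p q y_i`: a prime `r ∣ y_i` is odd and divides the left side of `ord_int`, hence divides
  `8 x₂ x₃ x₄ c(J)³`; `c(J) ∣ |G|` (`Subgroup.card_subgroup_dvd_card`), so `r ∣ 4 p^a q^b`, `r ≠ 2`.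
* `arith_klein p q … x₂ x₃ x₄ y₂ y₃ y₄ 1 D.ε (-1)` with `hrel` from `D.hrel`; its third
  conclusion (`ε₃ = -1 → x₄ = 3`) is the claim.
-/

set_option autoImplicit false

namespace Cfsg.Agent.Helper27.BT1

open Cfsg

universe u

variable {G : Type u} [Group G] [Finite G]

/-- an odd prime divisor of `4 p^a q^b` is `p` or `q` -/
theorem bt1deg3_prime_pq (p q a b : ℕ) (hp : p.Prime) (hq : q.Prime) (r : ℕ) (hr : r.Prime)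
    (hr2 : r ≠ 2) (h : r ∣ 4 * p ^ a * q ^ b) : r = p ∨ r = q := by
  rcases (Nat.Prime.dvd_mul hr).mp h with h1 | h1
  · rcases (Nat.Prime.dvd_mul hr).mp h1 with h2 | h2
    · exfalso
      have h3 : r ∣ 2 ^ 2 := by
        norm_num
        exact h2
      have h4 := hr.dvd_of_dvd_pow h3
      exact hr2 ((Nat.prime_dvd_prime_iff_eq hr Nat.prime_two).mp h4)
    · left
      exact (Nat.prime_dvd_prime_iff_eq hr hp).mp (hr.dvd_of_dvd_pow h2)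
  · right
    exact (Nat.prime_dvd_prime_iff_eq hr hq).mp (hr.dvd_of_dvd_pow h1)

/-- the prime divisors of an odd divisor of `8 x₂ x₃ x₄ c³` -/
theorem bt1deg3_pq_y (p q : ℕ) (x₂ x₃ x₄ cJ N : ℕ) (hx₂ : PQ p q x₂) (hx₃ : PQ p q x₃)
    (hx₄ : PQ p q x₄) (hN : ∀ r : ℕ, r.Prime → r ≠ 2 → r ∣ N → r = p ∨ r = q) (hcJ : cJ ∣ N)
    (y : ℕ) (hy : Odd y) (hyT : (y : ℤ) ∣ 8 * ((x₂ : ℤ) * x₃ * x₄) * (cJ : ℤ) ^ 3) :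
    PQ p q y := by
  intro r hr hry
  have hr2 : r ≠ 2 := by
    intro h2
    rw [h2] at hry
    have h3 := Nat.odd_iff.mp hy
    omega
  have h1 : ((r : ℕ) : ℤ) ∣ ((8 * (x₂ * x₃ * x₄) * cJ ^ 3 : ℕ) : ℤ) := by
    push_cast
    exact dvd_trans (Int.natCast_dvd_natCast.mpr hry) hyT
  have h2 : r ∣ 8 * (x₂ * x₃ * x₄) * cJ ^ 3 := Int.natCast_dvd_natCast.mp h1
  rcases (Nat.Prime.dvd_mul hr).mp h2 with h3 | h3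
  · rcases (Nat.Prime.dvd_mul hr).mp h3 with h4 | h4
    · exfalso
      have h5 : r ∣ 2 ^ 3 := by
        norm_num
        exact h4
      exact hr2 ((Nat.prime_dvd_prime_iff_eq hr Nat.prime_two).mp (hr.dvd_of_dvd_pow h5))
    · rcases (Nat.Prime.dvd_mul hr).mp h4 with h5 | h5
      · rcases (Nat.Prime.dvd_mul hr).mp h5 with h6 | h6
        · exact hx₂ r hr h6
        · exact hx₃ r hr h6
      · exact hx₄ r hr h5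
  · exact hN r hr hr2 (dvd_trans (hr.dvd_of_dvd_pow h3) hcJ)

theorem deg_zeta4 [IsSimpleGroup G] (hna : ∃ x y : G, x * y ≠ y * x) (D : KData G)
    (p q a b : ℕ) (hp : p.Prime) (hq : q.Prime) (hpq : p ≠ q) (hp2 : p ≠ 2) (hq2 : q ≠ 2)
    (hcard : Nat.card G = 4 * p ^ a * q ^ b) : charDegree (D.ζ₄ : G → ℂ) = 3 := by
  haveI := Fintype.ofFinite G
  obtain ⟨x₂, hx₂d⟩ : ∃ n : ℕ, n = charDegree (D.ζ₂ : G → ℂ) := ⟨_, rfl⟩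
  obtain ⟨x₃, hx₃d⟩ : ∃ n : ℕ, n = charDegree (D.ζ₃ : G → ℂ) := ⟨_, rfl⟩
  obtain ⟨x₄, hx₄d⟩ : ∃ n : ℕ, n = charDegree (D.ζ₄ : G → ℂ) := ⟨_, rfl⟩
  have hd2 := D.hd2
  have hd3 := D.hd3
  have hd4 := D.hd4
  have hrel := D.hrel
  rw [← hx₂d, ← hx₃d, ← hx₄d] at hrel
  rw [← hx₂d] at hd2
  rw [← hx₃d] at hd3
  rw [← hx₄d] at hd4
  -- degrees are > 1
  have hpos2 : 0 < x₂ := hx₂d ▸ Cfsg.Agent.Helper24.charDegree_pos D.ζ₂.2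
  have hpos3 : 0 < x₃ := hx₃d ▸ Cfsg.Agent.Helper24.charDegree_pos D.ζ₃.2
  have hpos4 : 0 < x₄ := hx₄d ▸ Cfsg.Agent.Helper24.charDegree_pos D.ζ₄.2
  have hne2 : x₂ ≠ 1 := by
    intro h
    exact D.h2 (no_linear hna D.ζ₂ (by rw [← hx₂d]; exact h))
  have hne3 : x₃ ≠ 1 := by
    intro h
    exact D.h3 (no_linear hna D.ζ₃ (by rw [← hx₃d]; exact h))
  have hne4 : x₄ ≠ 1 := by
    intro h
    exact D.h4 (no_linear hna D.ζ₄ (by rw [← hx₄d]; exact h))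
  have h1x2 : 1 < x₂ := by omega
  have h1x3 : 1 < x₃ := by omega
  have h1x4 : 1 < x₄ := by omega
  -- degrees divide the order
  have hdvd2 : x₂ ∣ 4 * p ^ a * q ^ b := by
    rw [hx₂d, ← hcard]
    exact Cfsg.Agent.Helper24.charDegree_dvd_card D.ζ₂.2
  have hdvd3 : x₃ ∣ 4 * p ^ a * q ^ b := by
    rw [hx₃d, ← hcard]
    exact Cfsg.Agent.Helper24.charDegree_dvd_card D.ζ₃.2
  have hdvd4 : x₄ ∣ 4 * p ^ a * q ^ b := by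
    rw [hx₄d, ← hcard]
    exact Cfsg.Agent.Helper24.charDegree_dvd_card D.ζ₄.2
  -- parity and the `y`s
  obtain ⟨y₂, hy₂, hy₂o, hodd2⟩ : ∃ y : ℕ, (x₂ : ℤ) + 1 = 2 * y ∧ Odd y ∧ Odd x₂ := by
    obtain ⟨k, hk⟩ := hd2
    refine ⟨(x₂ + 1) / 2, ?_, Nat.odd_iff.mpr ?_, Nat.odd_iff.mpr ?_⟩ <;> omega
  obtain ⟨y₃, hy₃, hy₃o, hodd3⟩ : ∃ y : ℕ, (x₃ : ℤ) + D.ε = 2 * y ∧ Odd y ∧ Odd x₃ := by
    rcases D.hε with he | he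
    · rw [he] at hd3 ⊢
      obtain ⟨k, hk⟩ := hd3
      refine ⟨(x₃ + 1) / 2, ?_, Nat.odd_iff.mpr ?_, Nat.odd_iff.mpr ?_⟩ <;> omega
    · rw [he] at hd3 ⊢
      obtain ⟨k, hk⟩ := hd3
      refine ⟨(x₃ - 1) / 2, ?_, Nat.odd_iff.mpr ?_, Nat.odd_iff.mpr ?_⟩ <;> omega
  obtain ⟨y₄, hy₄, hy₄o, hodd4⟩ : ∃ y : ℕ, (x₄ : ℤ) + (-1) = 2 * y ∧ Odd y ∧ Odd x₄ := by
    obtain ⟨k, hk⟩ := hd4
    refine ⟨(x₄ - 1) / 2, ?_, Nat.odd_iff.mpr ?_, Nat.odd_iff.mpr ?_⟩ <;> omega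
  have hoddr : ∀ m : ℕ, Odd m → ∀ r : ℕ, r ∣ m → r ≠ 2 := by
    intro m hm r hrm h2
    rw [h2] at hrm
    have h3 := Nat.odd_iff.mp hm
    omega
  have hPQ2 : PQ p q x₂ := fun r hr hrx =>
    bt1deg3_prime_pq p q a b hp hq r hr (hoddr x₂ hodd2 r hrx) (dvd_trans hrx hdvd2)
  have hPQ3 : PQ p q x₃ := fun r hr hrx =>
    bt1deg3_prime_pq p q a b hp hq r hr (hoddr x₃ hodd3 r hrx) (dvd_trans hrx hdvd3)
  have hPQ4 : PQ p q x₄ := fun r hr hrx =>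
    bt1deg3_prime_pq p q a b hp hq r hr (hoddr x₄ hodd4 r hrx) (dvd_trans hrx hdvd4)
  -- the order formula
  have hord := ord_int D (hx₃d ▸ h1x3) (hx₄d ▸ h1x4)
  rw [← hx₂d, ← hx₃d, ← hx₄d] at hord
  have hcJ : Nat.card (Subgroup.centralizer ({D.J} : Set G)) ∣ Nat.card G :=
    Subgroup.card_subgroup_dvd_card _
  have hN : ∀ r : ℕ, r.Prime → r ≠ 2 → r ∣ Nat.card G → r = p ∨ r = q := by
    intro r hr hr2 hrN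
    rw [hcard] at hrN
    exact bt1deg3_prime_pq p q a b hp hq r hr hr2 hrN
  have hdv2 : (y₂ : ℤ) ∣ 8 * ((x₂ : ℤ) * x₃ * x₄) *
      (Nat.card (Subgroup.centralizer ({D.J} : Set G)) : ℤ) ^ 3 := by
    rw [← hord]
    have h1 : (y₂ : ℤ) ∣ (x₂ : ℤ) + 1 := ⟨2, by rw [hy₂]; ring⟩
    exact dvd_mul_of_dvd_left (dvd_mul_of_dvd_right (dvd_mul_of_dvd_left
      (dvd_mul_of_dvd_left h1 _) _) _) _
  have hdv3 : (y₃ : ℤ) ∣ 8 * ((x₂ : ℤ) * x₃ * x₄) *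
      (Nat.card (Subgroup.centralizer ({D.J} : Set G)) : ℤ) ^ 3 := by
    rw [← hord]
    have h1 : (y₃ : ℤ) ∣ (x₃ : ℤ) + D.ε := ⟨2, by rw [hy₃]; ring⟩
    exact dvd_mul_of_dvd_left (dvd_mul_of_dvd_right (dvd_mul_of_dvd_left
      (dvd_mul_of_dvd_right h1 _) _) _) _
  have hdv4 : (y₄ : ℤ) ∣ 8 * ((x₂ : ℤ) * x₃ * x₄) *
      (Nat.card (Subgroup.centralizer ({D.J} : Set G)) : ℤ) ^ 3 := by
    rw [← hord]
    have h1 : (y₄ : ℤ) ∣ (x₄ : ℤ) - 1 := ⟨2, by rw [sub_eq_add_neg, hy₄]; ring⟩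
    exact dvd_mul_of_dvd_left (dvd_mul_of_dvd_right (dvd_mul_of_dvd_right h1 _) _) _
  have hPQy2 : PQ p q y₂ := bt1deg3_pq_y p q x₂ x₃ x₄ _ _ hPQ2 hPQ3 hPQ4 hN hcJ y₂ hy₂o hdv2
  have hPQy3 : PQ p q y₃ := bt1deg3_pq_y p q x₂ x₃ x₄ _ _ hPQ2 hPQ3 hPQ4 hN hcJ y₃ hy₃o hdv3
  have hPQy4 : PQ p q y₄ := bt1deg3_pq_y p q x₂ x₃ x₄ _ _ hPQ2 hPQ3 hPQ4 hN hcJ y₄ hy₄o hdv4
  have hrel' : 1 + (1 : ℤ) * x₂ + D.ε * x₃ + (-1 : ℤ) * x₄ = 0 := by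
    linarith
  have hfin := arith_klein p q hp hq hpq hp2 hq2 x₂ x₃ x₄ y₂ y₃ y₄ 1 D.ε (-1) (Or.inl rfl) D.hε
    (Or.inr rfl) h1x2 h1x3 h1x4 hPQ2 hPQ3 hPQ4 hPQy2 hPQy3 hPQy4 hy₂ hy₃ hy₄ hrel'
  rw [← hx₄d]
  exact hfin.2.2 rfl

end Cfsg.Agent.Helper27.BT1
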