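import Mathlib
import Cfsg.Agent.Lib.BT1.BT1Defs
import Cfsg.Agent.S0202
import Cfsg.Agent.S0203

/-!
# PIECE BT1-ONE (S4501): one class of involutions

`G` simple non-abelian with Klein four Sylow `2`-subgroup `P`.  By `S0202.result` the number of
classes of involutions is `1` or `3`; by `S0203.result` it is `3` iff `P` has a normal complement
`N`.  `N` normal in the simple `G` ⇒ `N = ⊥` or `⊤`; `|N| * |P| = |G|`, `|P| = 4`
(`IsKleinFour.card_four`), so `N = ⊤` is impossible and `N = ⊥` gives `|G| = 4`, abelian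
(`IsPGroup.commutative_of_card_eq_prime_sq`-style), contradicting `hna`.  So there is exactly one
class: `ConjClasses.mk s = ConjClasses.mk t`, i.e. `IsConj s t` (`ConjClasses.mk_eq_mk_iff_isConj`).
-/

set_option autoImplicit false

namespace Cfsg.Agent.Helper27.BT1

open Cfsg

universe u

variable {G : Type u} [Group G] [Finite G]

theorem one_class [IsSimpleGroup G] (hna : ∃ x y : G, x * y ≠ y * x) (P : Sylow 2 G)
    (hP : IsKleinFour (P : Subgroup G)) :
    ∀ s t : G, orderOf s = 2 → orderOf t = 2 → IsConj s t := by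
  have hP4 : Nat.card (P : Subgroup G) = 4 := hP.card_four
  have hcard : Nat.card {C : ConjClasses G // ∃ t : G, orderOf t = 2 ∧ ConjClasses.mk t = C} = 1 := by
    rcases Cfsg.Agent.S0202.result P hP with h1 | h3
    · exact h1
    · exfalso
      obtain ⟨N, hN, hc⟩ := (Cfsg.Agent.S0203.result P hP).mp h3
      have hmul : Nat.card N * Nat.card (P : Subgroup G) = Nat.card G := hc.card_mul_card
      rw [hP4] at hmul
      rcases hN.eq_bot_or_eq_top with hb | ht
      · rw [hb, Subgroup.card_bot] at hmul
        have h4 : Nat.card G = 2 ^ 2 := by omega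
        have : Fact (Nat.Prime 2) := ⟨Nat.prime_two⟩
        obtain ⟨x, y, hxy⟩ := hna
        exact hxy ((IsPGroup.isMulCommutative_of_card_eq_prime_sq h4).is_comm.comm x y)
      · rw [ht, Subgroup.card_top] at hmul
        have hpos : 0 < Nat.card G := Nat.card_pos
        omega
  intro s t hs ht
  have hsub : Subsingleton {C : ConjClasses G // ∃ t : G, orderOf t = 2 ∧ ConjClasses.mk t = C} :=
    (Nat.card_eq_one_iff_unique.mp hcard).1
  have heq : (⟨ConjClasses.mk s, s, hs, rfl⟩ :
      {C : ConjClasses G // ∃ t : G, orderOf t = 2 ∧ ConjClasses.mk t = C}) =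
      ⟨ConjClasses.mk t, t, ht, rfl⟩ := Subsingleton.elim _ _
  exact ConjClasses.mk_eq_mk_iff_isConj.mp (Subtype.ext_iff.mp heq)

end Cfsg.Agent.Helper27.BT1
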