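import Mathlib
import Cfsg.Agent.Lib.BT1.BT1Defs
import Cfsg.Agent.Lib.BT1.BT1ONE
import Cfsg.Agent.S0992
import Cfsg.Agent.S0948
import Cfsg.Agent.S4479
import Cfsg.Agent.Lib.Helper24.GlaubPGroup

/-!
# PIECE BT1-KD (S4501): the Klein-four data exist  (proved by helper2)

`G` simple non-abelian of order `4 * g₀`, `g₀` odd.
* `M`: `Cfsg.Agent.Helper24.Glaub.exists_isPModular Nat.prime_two`.
* `P` any Sylow `2`-subgroup; `S0992.result` (`¬ IsMulCommutative G` from `hna`; `Even`, `¬ 8 ∣`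
  from `hG`, `hg₀`) gives `IsKleinFour P`.  `hone := one_class hna P hP`.
* `J`: any involution of `P` (a non-identity element of the Klein four group has order `2`).
* `S0948.result M hM P hP hone` gives `ζ₂ ζ₃ ζ₄ ε` with all the fields `hε h2 h3 hd2 hd3 hd4`,
  the block `= {1, ζ₂, ζ₃, ζ₄}` (so `h4B`), the values at involutions (so `h4v`, and
  `h4 : ζ₄ ≠ 1` since `ζ₄ J = -1 ≠ 1`), and `hrel` from the last clause at `y = 1`
  (`orderOf 1 = 1` is odd; `χ 1 = charDegree χ` for irreducible characters: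
  `Cfsg.Agent.Helper24.irr_one_eq_charDegree`), cast from `ℂ` to `ℤ`.
* `S4479.result M hM g₀ hg₀ hG hnc P J hJ hJ2 ζ₂ ζ₃ ζ₄ 1 ε (-1) hB hdist hε' hval` gives `hord`
  (`hnc`: a normal subgroup of the simple group has order `1` or `4 * g₀`, never `g₀`, since
  `g₀ ≠ 1` – a group of order `4` is abelian – and `g₀ ≠ 4 * g₀`).
-/

set_option autoImplicit false

namespace Cfsg.Agent.Helper27.BT1

open Cfsg

universe u

variable {G : Type u} [Group G] [Finite G]

theorem exists_kdata [IsSimpleGroup G] (hna : ∃ x y : G, x * y ≠ y * x) (g₀ : ℕ) (hg₀ : Odd g₀)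
    (hG : Nat.card G = 4 * g₀) : Nonempty (KData G) := by
  obtain ⟨M, hM⟩ := Cfsg.Agent.Helper24.Glaub.exists_isPModular Nat.prime_two
  obtain ⟨P⟩ : Nonempty (Sylow 2 G) := inferInstance
  have hnc' : ¬ IsMulCommutative G := by
    intro h
    obtain ⟨x, y, hxy⟩ := hna
    exact hxy (h.is_comm.comm x y)
  obtain ⟨k, hk⟩ := hg₀
  have h2 : Even (Nat.card G) := by rw [hG]; exact ⟨2 * g₀, by ring⟩
  have h8 : ¬ 8 ∣ Nat.card G := by rw [hG, hk]; omega
  have hP : IsKleinFour (P : Subgroup G) := (Cfsg.Agent.S0992.result hnc' h2 h8 P).1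
  have hone := one_class hna P hP
  -- an involution of `P`
  have hcardP : Nat.card (P : Subgroup G) = 4 := hP.card_four
  have hntP : Nontrivial (P : Subgroup G) := by
    apply (Finite.one_lt_card_iff_nontrivial).mp
    rw [hcardP]; norm_num
  obtain ⟨x, hx1⟩ := exists_ne (1 : (P : Subgroup G))
  have hx2 : x ^ 2 = 1 := by
    have := Monoid.pow_exponent_eq_one x
    rwa [hP.exponent_two] at this
  have hox : orderOf x = 2 := orderOf_eq_prime hx2 hx1
  set J : G := (x : G) with hJdef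
  have hJ : J ∈ (P : Subgroup G) := x.2
  have hJ2 : orderOf J = 2 := by rw [hJdef, Subgroup.orderOf_coe]; exact hox
  obtain ⟨ζ₂, ζ₃, ζ₄, ε, hε, h2', h3', h23, h24, h34, hB, hval, hd2, hd3, hd4, hodd⟩ :=
    Cfsg.Agent.S0948.result M hM P hP hone
  obtain ⟨hv2, hv3, hv4⟩ := hval J hJ2
  have h4' : (ζ₄ : G → ℂ) ≠ fun _ => 1 := by
    intro h
    have := congrFun h J
    rw [hv4] at this
    norm_num at this
  have h4B : ζ₄ ∈ principalBlock M G := by
    rw [hB]
    right; right; right; rfl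
  have hrel : 1 + (charDegree (ζ₂ : G → ℂ) : ℤ) + ε * (charDegree (ζ₃ : G → ℂ) : ℤ)
      - (charDegree (ζ₄ : G → ℂ) : ℤ) = 0 := by
    have h1 := hodd 1 (by rw [orderOf_one]; exact odd_one)
    rw [Cfsg.Agent.Helper24.irr_one_eq_charDegree ζ₂.2,
      Cfsg.Agent.Helper24.irr_one_eq_charDegree ζ₃.2,
      Cfsg.Agent.Helper24.irr_one_eq_charDegree ζ₄.2] at h1
    exact_mod_cast h1
  have hnc : ¬ ∃ N : Subgroup G, N.Normal ∧ Nat.card N = g₀ := by
    rintro ⟨N, hN, hcard⟩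
    rcases hN.eq_bot_or_eq_top with h | h
    · rw [h, Subgroup.card_bot] at hcard
      -- `|G| = 4`, abelian
      have hG4 : Nat.card G = 2 ^ 2 := by rw [hG, ← hcard]; norm_num
      have : Fact (Nat.Prime 2) := ⟨Nat.prime_two⟩
      exact hnc' (IsPGroup.isMulCommutative_of_card_eq_prime_sq hG4)
    · rw [h, Subgroup.card_top, hG] at hcard
      omega
  have hord := Cfsg.Agent.S4479.result M hM g₀ ⟨k, hk⟩ hG hnc P J hJ hJ2 ζ₂ ζ₃ ζ₄ 1 ε (-1) hB
    ⟨h2', h3', h4', h23, h24, h34⟩ ⟨Or.inl rfl, hε, Or.inr rfl⟩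
    ⟨by rw [hv2]; norm_num, hv3, by rw [hv4]; norm_num⟩
  exact ⟨{ M := M, hM := hM, P := P, hP := hP, hone := hone, J := J, hJ := hJ, hJ2 := hJ2,
           ζ₂ := ζ₂, ζ₃ := ζ₃, ζ₄ := ζ₄, ε := ε, hε := hε, h2 := h2', h3 := h3', h4 := h4',
           h4B := h4B, h4v := fun z hz => (hval z hz).2.2, hd2 := hd2, hd3 := hd3, hd4 := hd4,
           hrel := hrel, hord := hord }⟩

end Cfsg.Agent.Helper27.BT1
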