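import Mathlib
import Cfsg.Agent.Lib.BT1.BT1Defs
import Cfsg.Agent.Lib.BT1.BT1KD
import Cfsg.Agent.Lib.BT1.BT1DEG3
import Cfsg.Agent.Lib.BT1.BT1CJ2
import Cfsg.Agent.Lib.Helper7.BSKleinBlock
import Cfsg.Agent.S0144
import Cfsg.Agent.S3278

/-!
# PIECE BT1-C4 (S4501): simple groups of order `4 p^a q^b` (assembly)

* `p ≠ 2` and `q ≠ 2`: otherwise `|G| = 2^(a+2) q^b` (resp. `2^(b+2) p^a`) has at most two prime
  divisors, `S0144.result` makes `G` solvable, and a solvable simple group is abelian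
  (`IsSimpleGroup` + `Group.IsSolvable` ⇒ commutative: `IsSimpleGroup.comm_iff_isSolvable`),
  against `hna`.
* `g₀ := p^a * q^b` is odd; `exists_kdata hna g₀ _ _` gives `D : KData G`.
* `deg_zeta4` gives `charDegree D.ζ₄ = 3`.
* `Cfsg.Agent.Helper7.klein_block_const D.M D.hM D.P D.hP D.hone D.hJ D.hJ2 D.ζ₄ D.h4B g hg` and
  `D.h4v D.J D.hJ2` give `ζ₄ g = -1` for every `g` of even order.
* `odd_centralizer_trivial`: every odd-order element of `C := C_G(J)` is `1`; so `|C|` is a power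
  of `2` (Cauchy: an odd prime divisor of `|C|` gives an element of odd prime order).  `P ≤ C`
  (`P` is abelian, `J ∈ P`), `|P| = 4` is the full `2`-part of `|G| = 4 * odd`, `|C| ∣ |G|`:
  so `|C| = 4` and `C = P`.
* `S3278.result D.J D.hJ2 (D.P : Subgroup G) hle D.hP hodd hn` with `relIndex = 1` and
  `P.subgroupOf C = ⊤`.
-/

set_option autoImplicit false

namespace Cfsg.Agent.Helper27.BT1

open Cfsg

universe u

variable {G : Type u} [Group G] [Finite G]

theorem case4 [IsSimpleGroup G] (hna : ∃ x y : G, x * y ≠ y * x) (p q a b : ℕ) (hp : p.Prime)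
    (hq : q.Prime) (hpq : p ≠ q) (hcard : Nat.card G = 4 * p ^ a * q ^ b) :
    Nonempty (G ≃* alternatingGroup (Fin 5)) := by
  classical
  -- a solvable simple group is abelian
  have hnsol : ¬ Group.IsSolvable G := by
    intro hs
    obtain ⟨x, y, hxy⟩ := hna
    exact hxy ((IsSimpleGroup.comm_iff_isSolvable.mpr hs) x y)
  have hp2 : p ≠ 2 := by
    intro h
    apply hnsol
    refine Cfsg.Agent.S0144.result 2 q (a + 2) b Nat.prime_two hq ?_
    rw [hcard, h, pow_add]; ring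
  have hq2 : q ≠ 2 := by
    intro h
    apply hnsol
    refine Cfsg.Agent.S0144.result 2 p (b + 2) a Nat.prime_two hp ?_
    rw [hcard, h, pow_add]; ring
  have hg₀ : Odd (p ^ a * q ^ b) :=
    ((hp.odd_of_ne_two hp2).pow).mul ((hq.odd_of_ne_two hq2).pow)
  have hG : Nat.card G = 4 * (p ^ a * q ^ b) := by rw [hcard, mul_assoc]
  obtain ⟨D⟩ := exists_kdata hna (p ^ a * q ^ b) hg₀ hG
  have hdeg := deg_zeta4 hna D p q a b hp hq hpq hp2 hq2 hcard
  have hval : ∀ g : G, 2 ∣ orderOf g → (D.ζ₄ : G → ℂ) g = -1 := fun g hg =>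
    (Cfsg.Agent.Helper7.klein_block_const D.M D.hM D.P D.hP D.hone D.hJ D.hJ2 D.ζ₄ D.h4B g hg).trans
      (D.h4v D.J D.hJ2)
  -- odd-order elements of `C_G(J)` are trivial
  have hoddC : ∀ h ∈ Subgroup.centralizer ({D.J} : Set G), Odd (orderOf h) → h = 1 := by
    intro h hh hodd
    have hc : h * D.J = D.J * h :=
      (Subgroup.mem_centralizer_iff.mp hh D.J (Set.mem_singleton _)).symm
    exact odd_centralizer_trivial hna D.ζ₄ hdeg hval D.J D.hJ2 h hc hodd
  -- `|C|` is a power of `2`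
  have hCpos : Nat.card ↥(Subgroup.centralizer ({D.J} : Set G)) ≠ 0 := Nat.card_pos.ne'
  have hCpow : ∃ k : ℕ, Nat.card ↥(Subgroup.centralizer ({D.J} : Set G)) = 2 ^ k := by
    refine ⟨_, Nat.eq_prime_pow_of_unique_prime_dvd hCpos ?_⟩
    intro r hr hrd
    by_contra hr2
    haveI : Fact r.Prime := ⟨hr⟩
    obtain ⟨x, hx⟩ := exists_prime_orderOf_dvd_card' (G := ↥(Subgroup.centralizer ({D.J} : Set G))) r hrd
    have hxo : orderOf (x : G) = r := by rw [Subgroup.orderOf_coe]; exact hx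
    have hx1 : (x : G) = 1 := hoddC _ x.2 (by rw [hxo]; exact hr.odd_of_ne_two hr2)
    rw [hx1, orderOf_one] at hxo
    exact hr.one_lt.ne hxo
  obtain ⟨k, hk⟩ := hCpow
  -- `P ≤ C`
  have hP4 : Nat.card ↥(D.P : Subgroup G) = 4 := D.hP.card_four
  have hPle : (D.P : Subgroup G) ≤ Subgroup.centralizer ({D.J} : Set G) := by
    intro x hx
    rw [Subgroup.mem_centralizer_iff]
    intro y hy
    rw [Set.mem_singleton_iff] at hy
    subst hy
    have := mul_comm_of_exponent_two D.hP.exponent_two (⟨D.J, D.hJ⟩ : ↥(D.P : Subgroup G)) ⟨x, hx⟩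
    exact congrArg Subtype.val this
  -- `|C| = 4`
  have hCdvd : Nat.card ↥(Subgroup.centralizer ({D.J} : Set G)) ∣ 4 * (p ^ a * q ^ b) := by
    rw [← hG]; exact Subgroup.card_subgroup_dvd_card _
  have hC4 : Nat.card ↥(Subgroup.centralizer ({D.J} : Set G)) ∣ 4 := by
    rw [hk] at hCdvd ⊢
    have hcop : Nat.Coprime (2 ^ k) (p ^ a * q ^ b) :=
      Nat.Coprime.pow_left k (Nat.coprime_two_left.mpr hg₀)
    exact hcop.dvd_of_dvd_mul_right hCdvd
  have hCle : Nat.card ↥(Subgroup.centralizer ({D.J} : Set G)) ≤ Nat.card ↥(D.P : Subgroup G) := by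
    rw [hP4]; exact Nat.le_of_dvd (by norm_num) hC4
  have hPC : (D.P : Subgroup G) = Subgroup.centralizer ({D.J} : Set G) :=
    Subgroup.eq_of_le_of_card_ge hPle hCle
  refine Cfsg.Agent.S3278.result D.J D.hJ2 (D.P : Subgroup G) hPle D.hP ?_ ?_
  · rw [← hPC, Subgroup.relIndex_self]; norm_num
  · have : (D.P : Subgroup G).subgroupOf (Subgroup.centralizer ({D.J} : Set G)) = ⊤ :=
      Subgroup.subgroupOf_eq_top.mpr hPC.ge
    rw [this]
    infer_instance

end Cfsg.Agent.Helper27.BT1
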