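import Mathlib
import Cfsg.Agent.S0253
import Cfsg.Agent.Lib.Helper2.PSLMapEquiv

/-!
# PIECE BT1-PSL (S4501): from the output of S0998 to the target of S4501  (proved by helper2)

* `|F| = 5`: `S0253.result hF : Nonempty (PSL(2,F) ≃* alternatingGroup (Fin 5))`; compose.
* `|F| = 7`: `ZMod.ringEquivOfPrime F (by norm_num : Nat.Prime 7) hF : ZMod 7 ≃+* F`;
  `Cfsg.Agent.Helper2.pslMapEquiv e.symm : PSL(2,F) ≃* PSL(2, ZMod 7)`; compose.
-/

set_option autoImplicit false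

namespace Cfsg.Agent.Helper27.BT1

theorem psl_transport {G : Type*} [Group G]
    (h : (∃ (F : Type) (_ : Field F) (_ : Fintype F), Fintype.card F = 5 ∧
        Nonempty (G ≃* Matrix.ProjectiveSpecialLinearGroup (Fin 2) F)) ∨
      (∃ (F : Type) (_ : Field F) (_ : Fintype F), Fintype.card F = 7 ∧
        Nonempty (G ≃* Matrix.ProjectiveSpecialLinearGroup (Fin 2) F))) :
    Nonempty (G ≃* alternatingGroup (Fin 5)) ∨
      Nonempty (G ≃* Matrix.ProjectiveSpecialLinearGroup (Fin 2) (ZMod 7)) := by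
  rcases h with ⟨F, _, _, hF, ⟨e⟩⟩ | ⟨F, _, _, hF, ⟨e⟩⟩
  · left
    obtain ⟨e5⟩ := Cfsg.Agent.S0253.result (F := F) hF
    exact ⟨e.trans e5⟩
  · right
    have hp7 : Nat.Prime 7 := by norm_num
    have : Fact (Nat.Prime 7) := ⟨hp7⟩
    let r : ZMod 7 ≃+* F := ZMod.ringEquivOfPrime F hp7 hF
    exact ⟨e.trans (Cfsg.Agent.Helper2.pslMapEquiv r.symm)⟩

end Cfsg.Agent.Helper27.BT1
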