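import Mathlib

/-!
# PIECE BT1-K6 (S4501): a non-abelian group of order `6` has exactly `3` conjugacy classes

Route 1: `card_comm_eq_card_conjClasses_mul_card` (Mathlib, `Mathlib/GroupTheory/CommutingProbability`):
`#{(x, y) | x * y = y * x} = k(N) * |N|`; the centre is trivial (else `N / Z` cyclic ⇒ abelian), and
`Σ_x |C(x)| = 6 + 2·3 + 3·2 = 18`.  Route 2: the class equation.  Route 3: `N ≃* Equiv.Perm (Fin 3)`
(if available) and `decide`.
-/

set_option autoImplicit false

namespace Cfsg.Agent.Helper27.BT1

/-- in a non-abelian group of order 6 the centre is trivial -/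
theorem bt1k6_central_eq_one {N : Type*} [Group N] [Finite N] (h6 : Nat.card N = 6)
    (hna : ∃ x y : N, x * y ≠ y * x) (a : N) (ha : ∀ b : N, a * b = b * a) : a = 1 := by
  by_contra hne
  obtain ⟨x, y, hxy⟩ := hna
  apply hxy
  have haZ : a ∈ Subgroup.center N := by
    rw [Subgroup.mem_center_iff]
    intro b
    exact (ha b).symm
  have hdvd : Nat.card (Subgroup.center N) ∣ 6 := h6 ▸ Subgroup.card_subgroup_dvd_card _
  have hne1 : Nat.card (Subgroup.center N) ≠ 1 := by
    intro h1
    have hbot := (Subgroup.card_eq_one).mp h1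
    rw [hbot, Subgroup.mem_bot] at haZ
    exact hne haZ
  have hidx : (Subgroup.center N).index * Nat.card (Subgroup.center N) = 6 := by
    rw [mul_comm, Subgroup.card_mul_index, h6]
  have hq : Nat.card (N ⧸ Subgroup.center N) = (Subgroup.center N).index :=
    (Subgroup.index_eq_card _).symm
  have hcases : Nat.card (Subgroup.center N) = 2 ∨ Nat.card (Subgroup.center N) = 3 ∨
      Nat.card (Subgroup.center N) = 6 := by
    have hle : Nat.card (Subgroup.center N) ≤ 6 := Nat.le_of_dvd (by norm_num) hdvd
    have hpos : 0 < Nat.card (Subgroup.center N) := Nat.card_pos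
    interval_cases h : Nat.card (Subgroup.center N) <;> simp_all
  have hcyc : IsCyclic (N ⧸ Subgroup.center N) := by
    rcases hcases with h | h | h
    · have h3 : Nat.card (N ⧸ Subgroup.center N) = 3 := by rw [hq]; rw [h] at hidx; omega
      have : Fact (Nat.Prime 3) := ⟨by norm_num⟩
      exact isCyclic_of_prime_card h3
    · have h2 : Nat.card (N ⧸ Subgroup.center N) = 2 := by rw [hq]; rw [h] at hidx; omega
      have : Fact (Nat.Prime 2) := ⟨by norm_num⟩
      exact isCyclic_of_prime_card h2
    · have h1 : Nat.card (N ⧸ Subgroup.center N) = 1 := by rw [hq]; rw [h] at hidx; omega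
      have : Subsingleton (N ⧸ Subgroup.center N) := (Nat.card_eq_one_iff_unique.mp h1).1
      exact isCyclic_of_subsingleton
  have hcomm : IsMulCommutative N :=
    MonoidHom.isMulCommutative_of_isCyclic_of_ker_le_center (QuotientGroup.mk' (Subgroup.center N))
      (by rw [QuotientGroup.ker_mk'])
  exact hcomm.is_comm.comm x y

theorem card_conjClasses_six {N : Type*} [Group N] [Finite N] (h6 : Nat.card N = 6)
    (hna : ∃ x y : N, x * y ≠ y * x) : Nat.card (ConjClasses N) = 3 := by
  classical
  have : Fintype N := Fintype.ofFinite N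
  have hk := card_comm_eq_card_conjClasses_mul_card N
  have h1 : Nat.card {p : N × N // Commute p.1 p.2} =
      ∑ a : N, Nat.card {b : N // Commute a b} := by
    rw [Nat.card_congr (Equiv.subtypeProdEquivSigmaSubtype Commute), Nat.card_sigma]
  -- centraliser cardinalities
  have hcent : ∀ a : N, Nat.card {b : N // Commute a b} =
      Nat.card (Subgroup.centralizer ({a} : Set N)) := by
    intro a
    apply Nat.card_congr
    apply Equiv.subtypeEquivRight
    intro b
    rw [Subgroup.mem_centralizer_iff]
    constructor
    · intro h c hc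
      rw [Set.mem_singleton_iff] at hc
      rw [hc]; exact h
    · intro h
      exact h a rfl
  have hone : Nat.card {b : N // Commute (1 : N) b} = 6 := by
    rw [← h6]
    apply Nat.card_congr
    exact Equiv.subtypeUnivEquiv (fun b => Commute.one_left b)
  have hbd : ∀ a : N, a ≠ 1 → 2 ≤ Nat.card {b : N // Commute a b} ∧
      Nat.card {b : N // Commute a b} ≤ 3 := by
    intro a ha
    rw [hcent a]
    have hdvd : Nat.card (Subgroup.centralizer ({a} : Set N)) ∣ 6 :=
      h6 ▸ Subgroup.card_subgroup_dvd_card _
    have hne1 : Nat.card (Subgroup.centralizer ({a} : Set N)) ≠ 1 := by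
      intro h
      have hbot := (Subgroup.card_eq_one).mp h
      have hmem : a ∈ Subgroup.centralizer ({a} : Set N) := by
        rw [Subgroup.mem_centralizer_iff]
        intro c hc
        rw [Set.mem_singleton_iff] at hc
        rw [hc]
      rw [hbot, Subgroup.mem_bot] at hmem
      exact ha hmem
    have hne6 : Nat.card (Subgroup.centralizer ({a} : Set N)) ≠ 6 := by
      intro h
      have htop : Subgroup.centralizer ({a} : Set N) = ⊤ := by
        apply (Subgroup.card_eq_iff_eq_top _).mp
        rw [h, h6]
      apply ha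
      apply bt1k6_central_eq_one h6 hna a
      intro b
      have hb : b ∈ Subgroup.centralizer ({a} : Set N) := by rw [htop]; exact Subgroup.mem_top b
      exact Subgroup.mem_centralizer_iff.mp hb a rfl
    have hle : Nat.card (Subgroup.centralizer ({a} : Set N)) ≤ 6 :=
      Nat.le_of_dvd (by norm_num) hdvd
    have hpos : 0 < Nat.card (Subgroup.centralizer ({a} : Set N)) := Nat.card_pos
    interval_cases h : Nat.card (Subgroup.centralizer ({a} : Set N)) <;> simp_all
  -- split the sum
  have hsplit : ∑ a : N, Nat.card {b : N // Commute a b} =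
      6 + ∑ a ∈ (Finset.univ.erase (1 : N)), Nat.card {b : N // Commute a b} := by
    rw [← Finset.add_sum_erase Finset.univ _ (Finset.mem_univ (1 : N)), hone]
  have hcard5 : (Finset.univ.erase (1 : N)).card = 5 := by
    rw [Finset.card_erase_of_mem (Finset.mem_univ _), Finset.card_univ, ← Nat.card_eq_fintype_card,
      h6]
  have hlow : (Finset.univ.erase (1 : N)).card • 2 ≤
      ∑ a ∈ (Finset.univ.erase (1 : N)), Nat.card {b : N // Commute a b} :=
    Finset.card_nsmul_le_sum _ _ _ (fun a ha => (hbd a (Finset.ne_of_mem_erase ha)).1)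
  have hhigh : ∑ a ∈ (Finset.univ.erase (1 : N)), Nat.card {b : N // Commute a b} ≤
      (Finset.univ.erase (1 : N)).card • 3 :=
    Finset.sum_le_card_nsmul _ _ _ (fun a ha => (hbd a (Finset.ne_of_mem_erase ha)).2)
  rw [hcard5, smul_eq_mul] at hlow hhigh
  rw [h1, hsplit, h6] at hk
  omega

end Cfsg.Agent.Helper27.BT1
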