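import Mathlib
import Cfsg.Agent.Lib.BT1.BT1Defs
import Cfsg.Agent.Lib.BT1.BT1K6
import Cfsg.Agent.S0904

/-!
# PIECE BT1-S3N (S4501): the Sylow `3`-normalizer in a simple group of order `3 p^a q^b`

`G` simple non-abelian, `|G| = 3 p^a q^b`, `p, q, 3` distinct primes, `S` a Sylow `3`-subgroup.
* `|S| = 3` (`Sylow.card_eq_multiplicity`; the `3`-part of `|G|` is `3`).
* `C_G(S) = S`: `S0904.result p q 3 a b hp hq hpq hp3 hq3 (by rw [hcard]; ring) S`.
* `N_G(S) ≠ C_G(S)`: otherwise Burnside's transfer theorem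
  (`MonoidHom.ker_transferSylow_isComplement'`, hypothesis `S.normalizer ≤ centralizer S`) gives a
  normal complement `K` of `S`; `K = ⊥` or `⊤` by simplicity, so `|G| = 3` or `|S| = 1`:
  impossible (`G` non-abelian).
* `N_G(S)/C_G(S)` embeds in `MulAut S`, of order `2` (`S` cyclic of order `3`), so
  `|N_G(S)| = 2 * 3 = 6`; pick `s` a generator of `S`: an element `g ∈ N_G(S) \ C_G(S)` maps `s`
  to the other generator, `g * s * g⁻¹ = s⁻¹`.  `C_G(s) = C_G(S) = S` has order `3`.
* `N_G(S)` is not abelian (`g` does not commute with `s`), so `card_conjClasses_six` gives `3`.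
-/

set_option autoImplicit false

namespace Cfsg.Agent.Helper27.BT1

open Cfsg

universe u

variable {G : Type u} [Group G] [Finite G]

theorem sylow_three [IsSimpleGroup G] (hna : ∃ x y : G, x * y ≠ y * x) (p q a b : ℕ)
    (hp : p.Prime) (hq : q.Prime) (hpq : p ≠ q) (hp3 : p ≠ 3) (hq3 : q ≠ 3)
    (hcard : Nat.card G = 3 * p ^ a * q ^ b) (S : Sylow 3 G) :
    Nat.card (ConjClasses (Subgroup.normalizer ((S : Subgroup G) : Set G))) = 3 ∧
    ∃ s : G, orderOf s = 3 ∧ Nat.card (Subgroup.centralizer ({s} : Set G)) = 3 ∧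
      IsConj s s⁻¹ := by
  classical
  haveI h3F : Fact (Nat.Prime 3) := ⟨Nat.prime_three⟩
  have hr : (3 : ℕ).Prime := Nat.prime_three
  have hcardG' : Nat.card G = p ^ a * q ^ b * 3 := by rw [hcard]; ring
  have hCS : Subgroup.centralizer ((S : Subgroup G) : Set G) = (S : Subgroup G) :=
    Cfsg.Agent.S0904.result p q 3 a b hp hq hpq hp3 hq3 hcardG' S
  -- `|S| = 3`
  have hfac : (Nat.card G).factorization 3 = 1 := by
    rw [hcardG']
    have h1 : p ^ a * q ^ b ≠ 0 := by
      apply mul_ne_zero <;> apply pow_ne_zero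
      · exact hp.ne_zero
      · exact hq.ne_zero
    rw [Nat.factorization_mul h1 hr.ne_zero,
      Nat.factorization_mul (pow_ne_zero _ hp.ne_zero) (pow_ne_zero _ hq.ne_zero)]
    simp only [Nat.factorization_pow, Finsupp.coe_add, Finsupp.coe_smul, Pi.add_apply,
      Pi.smul_apply, smul_eq_mul]
    have hrp : ¬ 3 ∣ p := by
      intro h
      exact hp3 ((Nat.prime_dvd_prime_iff_eq hr hp).mp h).symm
    have hrq : ¬ 3 ∣ q := by
      intro h
      exact hq3 ((Nat.prime_dvd_prime_iff_eq hr hq).mp h).symm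
    rw [Nat.factorization_eq_zero_of_not_dvd hrp, Nat.factorization_eq_zero_of_not_dvd hrq,
      hr.factorization_self]
    omega
  have hScard : Nat.card (S : Subgroup G) = 3 := by
    rw [S.card_eq_multiplicity, hfac, pow_one]
  -- a generator `s` of `S`
  obtain ⟨s, hsS, hs1⟩ : ∃ s ∈ (S : Subgroup G), s ≠ 1 := by
    by_contra hcon
    push Not at hcon
    have h1 : (S : Subgroup G) = ⊥ := (Subgroup.eq_bot_iff_forall _).mpr hcon
    rw [h1, Subgroup.card_bot] at hScard
    omega
  have hs3 : orderOf s = 3 := by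
    have h1 : orderOf s ∣ 3 := by
      have h2 := orderOf_dvd_natCard (⟨s, hsS⟩ : ↥(S : Subgroup G))
      rwa [Subgroup.orderOf_mk, hScard] at h2
    rcases (Nat.dvd_prime Nat.prime_three).mp h1 with h | h
    · exact absurd (orderOf_eq_one_iff.mp h) hs1
    · exact h
  have hzp : Subgroup.zpowers s = (S : Subgroup G) := by
    apply Subgroup.eq_of_le_of_card_ge
    · rw [Subgroup.zpowers_le]; exact hsS
    · rw [Nat.card_zpowers, hs3, hScard]
  have hs_cube : s ^ 3 = 1 := by rw [← hs3]; exact pow_orderOf_eq_one s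
  have hsinv : s⁻¹ = s ^ 2 := inv_eq_of_mul_eq_one_left (by rw [← pow_succ]; exact hs_cube)
  have hsne : s ≠ s⁻¹ := by
    intro h
    have h1 : s ^ 2 = 1 := by
      rw [pow_two]
      nth_rewrite 2 [h]
      exact mul_inv_cancel s
    have h2 := orderOf_dvd_of_pow_eq_one h1
    rw [hs3] at h2
    norm_num at h2
  have hSmem : ∀ x ∈ (S : Subgroup G), x = 1 ∨ x = s ∨ x = s⁻¹ := by
    intro x hx
    rw [← hzp] at hx
    obtain ⟨k, rfl⟩ := Subgroup.mem_zpowers_iff.mp hx
    have h1 : s ^ k = s ^ (k % 3) := by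
      have := (zpow_mod_orderOf s k).symm
      rwa [hs3] at this
    have h0 : 0 ≤ k % 3 := Int.emod_nonneg _ (by norm_num)
    have h2 : k % 3 < 3 := Int.emod_lt_of_pos _ (by norm_num)
    rw [h1]
    obtain ⟨j, hj⟩ : ∃ j : ℤ, k % 3 = j := ⟨_, rfl⟩
    rw [hj] at h0 h2 ⊢
    interval_cases j
    · left; exact zpow_zero s
    · right; left; exact zpow_one s
    · right; right
      rw [hsinv]
      exact zpow_natCast s 2
  -- `C_G(s) = S`
  have hCs : Subgroup.centralizer ({s} : Set G) = (S : Subgroup G) := by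
    apply le_antisymm
    · intro x hx
      rw [← hCS, Subgroup.mem_centralizer_iff]
      intro y hy
      have hxs : Commute s x := Subgroup.mem_centralizer_iff.mp hx s (Set.mem_singleton s)
      rcases hSmem y hy with rfl | rfl | rfl
      · rw [one_mul, mul_one]
      · exact hxs.eq
      · exact hxs.inv_left.eq
    · intro x hx
      rw [Subgroup.mem_centralizer_iff]
      intro y hy
      rw [Set.mem_singleton_iff] at hy
      subst hy
      have h1 : x ∈ Subgroup.centralizer ((S : Subgroup G) : Set G) := by rw [hCS]; exact hx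
      exact Subgroup.mem_centralizer_iff.mp h1 y hsS
  -- `N_G(S) ≰ C_G(S)` (Burnside)
  have hNC : ¬ (Subgroup.normalizer ((S : Subgroup G) : Set G) ≤
      Subgroup.centralizer ((S : Subgroup G) : Set G)) := by
    intro hP
    have hcomp := MonoidHom.ker_transferSylow_isComplement' S hP
    have hmul := hcomp.card_mul_card
    rcases (MonoidHom.normal_ker (MonoidHom.transferSylow S hP)).eq_bot_or_eq_top with h | h
    · rw [h, Subgroup.card_bot, one_mul, hScard] at hmul
      -- `|G| = 3`: abelian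
      haveI : Fact (Nat.card G).Prime := ⟨by rw [← hmul]; exact hr⟩
      haveI : IsCyclic G := isCyclic_of_prime_card rfl
      obtain ⟨x, y, hxy⟩ := hna
      exact hxy ((IsCyclic.isMulCommutative (α := G)).is_comm.comm x y)
    · rw [h, Subgroup.card_top, hScard] at hmul
      have hpos : 0 < Nat.card G := Nat.card_pos
      nlinarith
  -- an element of `N_G(S)` inverting `s`
  obtain ⟨g, hgN, hgs⟩ : ∃ g ∈ Subgroup.normalizer ((S : Subgroup G) : Set G),
      g * s * g⁻¹ = s⁻¹ := by
    rw [SetLike.not_le_iff_exists] at hNC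
    obtain ⟨g, hgN, hgC⟩ := hNC
    refine ⟨g, hgN, ?_⟩
    have h1 : g * s * g⁻¹ ∈ (S : Subgroup G) := (Subgroup.mem_normalizer_iff.mp hgN s).mp hsS
    rcases hSmem _ h1 with h | h | h
    · exfalso
      apply hs1
      have : g * s * g⁻¹ = g * 1 * g⁻¹ := by rw [h]; group
      exact mul_left_cancel (mul_right_cancel this)
    · exfalso
      apply hgC
      have h2 : g ∈ Subgroup.centralizer ({s} : Set G) := by
        rw [Subgroup.mem_centralizer_iff]
        intro y hy
        rw [Set.mem_singleton_iff] at hy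
        subst hy
        exact (mul_inv_eq_iff_eq_mul.mp h).symm
      rw [hCs] at h2
      rw [hCS]
      exact h2
    · exact h
  -- conjugates of `s` by elements of `N_G(S)`
  have hNs : ∀ n ∈ Subgroup.normalizer ((S : Subgroup G) : Set G),
      n * s * n⁻¹ = s ∨ n * s * n⁻¹ = s⁻¹ := by
    intro n hn
    have h1 : n * s * n⁻¹ ∈ (S : Subgroup G) := (Subgroup.mem_normalizer_iff.mp hn s).mp hsS
    rcases hSmem _ h1 with h | h | h
    · exfalso
      apply hs1
      have : n * s * n⁻¹ = n * 1 * n⁻¹ := by rw [h]; group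
      exact mul_left_cancel (mul_right_cancel this)
    · exact Or.inl h
    · exact Or.inr h
  have hSiff : ∀ n : G, n ∈ (S : Subgroup G) ↔ n * s * n⁻¹ = s := by
    intro n
    rw [← hCs, Subgroup.mem_centralizer_iff]
    constructor
    · intro h
      have := h s (Set.mem_singleton s)
      rw [← this, mul_inv_cancel_right]
    · intro h y hy
      rw [Set.mem_singleton_iff] at hy
      subst hy
      exact (mul_inv_eq_iff_eq_mul.mp h).symm
  -- `|N_G(S)| = 6`
  have hSN : (S : Subgroup G) ≤ Subgroup.normalizer ((S : Subgroup G) : Set G) :=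
    Subgroup.le_normalizer
  have hidx : ((S : Subgroup G).subgroupOf
      (Subgroup.normalizer ((S : Subgroup G) : Set G))).index = 2 := by
    rw [Subgroup.index_eq_two_iff]
    refine ⟨⟨g, hgN⟩, ?_⟩
    intro n
    rw [Subgroup.mem_subgroupOf, Subgroup.mem_subgroupOf, Subgroup.coe_mul, hSiff, hSiff]
    have e1 : (n : G) * g * s * ((n : G) * g)⁻¹ = (n : G) * (g * s * g⁻¹) * (n : G)⁻¹ := by group
    rw [e1, hgs]
    have e2 : (n : G) * s⁻¹ * (n : G)⁻¹ = ((n : G) * s * (n : G)⁻¹)⁻¹ := by group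
    rw [e2]
    rcases hNs n n.2 with h | h
    · rw [h]
      exact Or.inr ⟨rfl, fun h' => hsne h'.symm⟩
    · rw [h, inv_inv]
      exact Or.inl ⟨rfl, fun h' => hsne h'.symm⟩
  have hN6 : Nat.card ↥(Subgroup.normalizer ((S : Subgroup G) : Set G)) = 6 := by
    have h1 := Subgroup.card_mul_index ((S : Subgroup G).subgroupOf
      (Subgroup.normalizer ((S : Subgroup G) : Set G)))
    rw [hidx, Nat.card_congr (Subgroup.subgroupOfEquivOfLe hSN).toEquiv, hScard] at h1
    omega
  have hNna : ∃ x y : ↥(Subgroup.normalizer ((S : Subgroup G) : Set G)), x * y ≠ y * x := by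
    refine ⟨⟨g, hgN⟩, ⟨s, hSN hsS⟩, ?_⟩
    intro h
    have h1 : g * s = s * g := congrArg Subtype.val h
    apply hsne
    rw [← hgs, h1, mul_inv_cancel_right]
  refine ⟨card_conjClasses_six hN6 hNna, s, hs3, ?_, ?_⟩
  · rw [hCs, hScard]
  · rw [isConj_iff]
    exact ⟨g, hgs⟩

end Cfsg.Agent.Helper27.BT1
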