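import Mathlib
import Cfsg.Agent.Lib.BT1.BT1Defs
import Cfsg.Agent.Lib.Helper24.CharComplete
import Cfsg.Agent.Lib.Helper24.CharIntegral
import Cfsg.Agent.Lib.Helper23.CharValues
import Cfsg.Agent.Lib.Helper17.M11T3

/-!
# PIECE BT1-VAL (S4501): the two non-principal characters of `3'`-degree at an element of order `3`

`3 ∥ |G|`; `s` of order `3` with `|C_G(s)| = 3` and `s ~ s⁻¹`; `χ' ≠ χ''` non-principal irreducible
characters of degree prime to `3`, and EVERY irreducible character of degree prime to `3` is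
`1`, `χ'` or `χ''`.  Then with `u = χ'(s)`, `w = χ''(s)`: `u, w ∈ {1, -1}` (as integers) and
`1 + u * χ'(1) + w * χ''(1) = 0`.

PROOF.  (a) If `3 ∣ χ(1)` then `¬ 3 ∣ |G| / χ(1)` (as `9 ∤ |G|`), so `χ s = 0` (`dz_vanish`).
(b) second orthogonality at `(s, s)`: `1 + |u|² + |w|² = 3`.
(c) second orthogonality at `(1, s)`: `1 + χ'(1) conj u + χ''(1) conj w = 0`.
(d) `u, w` are real (`s ~ s⁻¹`), and `u + conj u` is a sum of `μ + conj μ` over cube roots of
unity `μ`, each `2` or `-1`: so `2u, 2w ∈ ℤ`, `(2u)² + (2w)² = 8`, `2u, 2w = ±2`.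
-/

set_option autoImplicit false

namespace Cfsg.Agent.Helper27.BT1

open Cfsg Cfsg.Agent.Helper24
open scoped ComplexConjugate

universe u

/-- A cube root of unity plus its conjugate is an integer. -/
theorem val_cube_root_add_conj (μ : ℂ) (h : μ ^ 3 = 1) : ∃ m : ℤ, μ + conj μ = (m : ℂ) := by
  have hn : ‖μ‖ = 1 := Complex.norm_eq_one_of_pow_eq_one h (by norm_num)
  have hc : conj μ = μ⁻¹ := (Complex.inv_eq_conj hn).symm
  have hne : μ ≠ 0 := by
    intro h0
    rw [h0] at h
    norm_num at h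
  have hinv : μ⁻¹ = μ ^ 2 := by
    rw [inv_eq_iff_eq_inv]
    apply eq_inv_of_mul_eq_one_left
    rw [← h]; ring
  have hfac : (μ - 1) * (μ ^ 2 + μ + 1) = 0 := by
    have : (μ - 1) * (μ ^ 2 + μ + 1) = μ ^ 3 - 1 := by ring
    rw [this, h, sub_self]
  rcases mul_eq_zero.1 hfac with h1 | h1
  · refine ⟨2, ?_⟩
    have : μ = 1 := sub_eq_zero.1 h1
    rw [this]
    simp
    norm_num
  · refine ⟨-1, ?_⟩
    rw [hc, hinv]
    have : μ + μ ^ 2 = -1 := by linear_combination h1
    rw [this]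
    simp

/-- A sum of cube roots of unity plus its conjugate is an integer. -/
theorem val_multiset_cube_sum (S : Multiset ℂ) (h : ∀ μ ∈ S, μ ^ 3 = 1) :
    ∃ m : ℤ, S.sum + conj S.sum = (m : ℂ) := by
  induction S using Multiset.induction_on with
  | empty => exact ⟨0, by simp⟩
  | cons a S ih =>
    obtain ⟨m, hm⟩ := ih (fun μ hμ => h μ (Multiset.mem_cons_of_mem hμ))
    obtain ⟨k, hk⟩ := val_cube_root_add_conj a (h a (Multiset.mem_cons_self a S))
    refine ⟨k + m, ?_⟩
    rw [Multiset.sum_cons, map_add]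
    push_cast
    rw [← hm, ← hk]
    ring

/-- Integers with `m² + n² = 8`. -/
theorem val_int_sq_add_sq_eight (m n : ℤ) (h : m ^ 2 + n ^ 2 = 8) :
    (m = 2 ∨ m = -2) ∧ (n = 2 ∨ n = -2) := by
  have hm1 : -2 ≤ m := by nlinarith [sq_nonneg n]
  have hm2 : m ≤ 2 := by nlinarith [sq_nonneg n]
  have hn1 : -2 ≤ n := by nlinarith [sq_nonneg m]
  have hn2 : n ≤ 2 := by nlinarith [sq_nonneg m]
  interval_cases m <;> interval_cases n <;> simp_all

variable {G : Type u} [Group G] [Finite G]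

omit [Finite G] in
/-- The value of a character at an element of order dividing `3`, plus its conjugate, is an
integer. -/
theorem val_char_add_conj {χ : G → ℂ} (hχ : IsCharacter G χ) (s : G) (hs : s ^ 3 = 1) :
    ∃ m : ℤ, χ s + conj (χ s) = (m : ℂ) := by
  obtain ⟨n, ρ, rfl⟩ := hχ
  obtain ⟨S, -, hS, hsum⟩ := Cfsg.Agent.Helper23.exists_multiset_roots_of_unity ρ s 3 hs
  rw [hsum]
  exact val_multiset_cube_sum S hS

theorem values_at_three (h3 : 3 ∣ Nat.card G) (h9 : ¬ 9 ∣ Nat.card G) (s : G)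
    (hs : orderOf s = 3) (hCs : Nat.card (Subgroup.centralizer ({s} : Set G)) = 3)
    (hinv : IsConj s s⁻¹) (χ' χ'' : IrrCharacter G) (hne : χ' ≠ χ'')
    (h' : (χ' : G → ℂ) ≠ fun _ => 1) (h'' : (χ'' : G → ℂ) ≠ fun _ => 1)
    (hall : ∀ χ : IrrCharacter G, ¬ 3 ∣ charDegree (χ : G → ℂ) →
      (χ : G → ℂ) = (fun _ => 1) ∨ χ = χ' ∨ χ = χ'') :
    ∃ u w : ℤ, (u = 1 ∨ u = -1) ∧ (w = 1 ∨ w = -1) ∧
      1 + u * (charDegree (χ' : G → ℂ) : ℤ) + w * (charDegree (χ'' : G → ℂ) : ℤ) = 0 := by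
  classical
  have := Fintype.ofFinite G
  let _ : Fintype (IrrCharacter G) := irrFintype
  have hs1 : s ≠ 1 := by
    intro h
    rw [h, orderOf_one] at hs
    omega
  have hs3 : s ^ 3 = 1 := by rw [← hs]; exact pow_orderOf_eq_one s
  -- (a) vanishing
  have hvan : ∀ χ : IrrCharacter G, 3 ∣ charDegree (χ : G → ℂ) → (χ : G → ℂ) s = 0 := by
    intro χ hd
    have : Fact (Nat.Prime 3) := ⟨Nat.prime_three⟩
    refine Cfsg.Agent.Helper17.M11.dz_vanish 3 χ ?_ s (by rw [hs])
    intro hdiv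
    have hdvd := charDegree_dvd_card χ.2
    apply h9
    have : charDegree (χ : G → ℂ) * (Nat.card G / charDegree (χ : G → ℂ)) = Nat.card G :=
      Nat.mul_div_cancel' hdvd
    rw [← this]
    exact Nat.mul_dvd_mul hd hdiv
  -- the three characters
  set χ0 : IrrCharacter G := principalChar G with hχ0
  have h0val : ∀ g : G, (χ0 : G → ℂ) g = 1 := fun g => rfl
  have h0' : χ0 ≠ χ' := by
    intro h
    apply h'
    rw [← h]
    rfl
  have h0'' : χ0 ≠ χ'' := by
    intro h
    apply h''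
    rw [← h]
    rfl
  have hsum : ∀ f : IrrCharacter G → ℂ, (∀ χ : IrrCharacter G, (χ : G → ℂ) s = 0 → f χ = 0) →
      ∑ χ : IrrCharacter G, f χ = f χ0 + f χ' + f χ'' := by
    intro f hf
    have hsub : ∑ χ ∈ ({χ0, χ', χ''} : Finset (IrrCharacter G)), f χ = ∑ χ : IrrCharacter G, f χ := by
      apply Finset.sum_subset (Finset.subset_univ _)
      intro χ _ hχ
      apply hf
      apply hvan
      by_contra hnd
      apply hχ
      rcases hall χ hnd with h | h | h
      · have : χ = χ0 := Subtype.ext h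
        rw [this]; simp
      · rw [h]; simp
      · rw [h]; simp
    rw [← hsub, Finset.sum_insert, Finset.sum_insert, Finset.sum_singleton]
    · ring
    · simpa using hne
    · simp only [Finset.mem_insert, Finset.mem_singleton, not_or]
      exact ⟨h0', h0''⟩
  -- values
  set u : ℂ := (χ' : G → ℂ) s with hu
  set w : ℂ := (χ'' : G → ℂ) s with hw
  -- (b)
  have hb : 1 + u * conj u + w * conj w = 3 := by
    have h := second_orthogonality' s s
    rw [if_pos (IsConj.refl s), hCs] at h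
    rw [hsum (fun χ => (χ : G → ℂ) s * conj ((χ : G → ℂ) s))
      (fun χ hχ => by simp [hχ])] at h
    simp only [h0val, map_one, mul_one] at h
    rw [← hu, ← hw] at h
    rw [h]; norm_num
  -- (c)
  have hc : 1 + (charDegree (χ' : G → ℂ) : ℂ) * conj u + (charDegree (χ'' : G → ℂ) : ℂ) * conj w
      = 0 := by
    have h := second_orthogonality' (1 : G) s
    have hnc : ¬ IsConj s 1 := by
      intro hc
      exact hs1 (isConj_one_left.mp hc)
    rw [if_neg hnc] at h
    rw [hsum (fun χ => (χ : G → ℂ) 1 * conj ((χ : G → ℂ) s))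
      (fun χ hχ => by simp [hχ])] at h
    simp only [h0val, map_one, mul_one] at h
    rw [irr_one_eq_charDegree χ'.2, irr_one_eq_charDegree χ''.2, ← hu, ← hw] at h
    exact h
  -- (d) reality
  have hreal : ∀ χ : IrrCharacter G, conj ((χ : G → ℂ) s) = (χ : G → ℂ) s := by
    intro χ
    rw [← irr_inv (isCharacter_of_isIrrCharacter χ.2) s]
    exact (classFunction_eq_of_isConj (isClassFunction_of_isIrrCharacter χ.2) hinv).symm
  have hur : conj u = u := hreal χ'
  have hwr : conj w = w := hreal χ''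
  obtain ⟨m, hm⟩ := val_char_add_conj (isCharacter_of_isIrrCharacter χ'.2) s hs3
  obtain ⟨n, hn⟩ := val_char_add_conj (isCharacter_of_isIrrCharacter χ''.2) s hs3
  rw [← hu, hur] at hm
  rw [← hw, hwr] at hn
  rw [hur, hwr] at hb hc
  -- (2u)² + (2w)² = 8
  have h8 : (m : ℂ) ^ 2 + (n : ℂ) ^ 2 = 8 := by
    rw [← hm, ← hn]
    linear_combination 4 * hb
  have h8z : m ^ 2 + n ^ 2 = 8 := by exact_mod_cast h8
  obtain ⟨hmm, hnn⟩ := val_int_sq_add_sq_eight m n h8z
  have hu2 : u = ((m / 2 : ℤ) : ℂ) := by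
    rcases hmm with h | h
    · rw [h] at hm ⊢
      norm_num at hm ⊢
      linear_combination hm / 2
    · rw [h] at hm ⊢
      norm_num at hm ⊢
      linear_combination hm / 2
  have hw2 : w = ((n / 2 : ℤ) : ℂ) := by
    rcases hnn with h | h
    · rw [h] at hn ⊢
      norm_num at hn ⊢
      linear_combination hn / 2
    · rw [h] at hn ⊢
      norm_num at hn ⊢
      linear_combination hn / 2
  refine ⟨m / 2, n / 2, ?_, ?_, ?_⟩
  · rcases hmm with h | h <;> rw [h] <;> norm_num
  · rcases hnn with h | h <;> rw [h] <;> norm_num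
  · rw [hu2, hw2] at hc
    have : ((1 + (m / 2 : ℤ) * (charDegree (χ' : G → ℂ) : ℤ) +
        (n / 2 : ℤ) * (charDegree (χ'' : G → ℂ) : ℤ) : ℤ) : ℂ) = 0 := by
      push_cast
      linear_combination hc
    exact_mod_cast this

end Cfsg.Agent.Helper27.BT1
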