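import Mathlib
import Cfsg.Agent.Lib.BT1.BT1Defs
import Cfsg.Agent.Lib.BT1.BT1PERF
import Cfsg.Agent.Lib.BT1.BT1C4
import Cfsg.Agent.Lib.BT1.BT1S3N
import Cfsg.Agent.Lib.BT1.BT1VAL
import Cfsg.Agent.Lib.BT1.BT1AR2
import Cfsg.Agent.Lib.BT1.BT1BV
import Cfsg.Agent.Lib.BT1.BT1PSL
import Cfsg.Agent.S0144
import Cfsg.Agent.S4500
import Cfsg.Agent.S4502
import Cfsg.Agent.S0998
import Cfsg.Agent.Lib.Helper24.CharLinear
import Cfsg.Agent.Lib.Helper24.CharIntegral
import Cfsg.Agent.Lib.Helper24.CharComplete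

/-!
# PIECE BT1-C3 (S4501): simple groups of order `3 p^a q^b`, `a ≤ 2` (assembly)

1. `p ≠ 3`, `q ≠ 3`: otherwise `|G|` has at most two prime divisors, `S0144.result` ⇒ solvable ⇒
   (simple) abelian, against `hna`.  So `3 ∣ |G|`, `¬ 9 ∣ |G|`.
2. `S4500.result 3 p q 1 a b` (`|G| = 3^1 * p^a * q^b`, `1 ≤ 2`; `Nontrivial G` from `hna`) gives
   non-principal irreducible `χ''` of degree `p^k` and `χ'` of degree `q^l`.  `k, l ≥ 1` by
   `no_linear`.  Both degrees are prime to `3`, `χ' ≠ χ''` (`p^k ≠ q^l`).  `p^k ∣ |G|`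
   (`Helper24.charDegree_dvd_card`) gives `k ≤ a ≤ 2`.
3. `S : Sylow 3 G`; `sylow_three` gives `k(N_G(S)) = 3` and `s`.  `S4502.result 3 h3 h9 S`: exactly
   three irreducible characters have degree prime to `3`; `1, χ', χ''` are three distinct ones, so
   `hall` holds (a set of cardinality `3` containing three distinct elements has no other).
4. `values_at_three` gives `u, w`; `arith_consecutive p q k l … u w` gives two cases:
   (A) `p = 2, k = 2, q = 5, l = 1`: then `a = 2` and `|G| = 3 * 4 * 5^b = 4 * 3^1 * 5^b`: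
       `case4 hna 3 5 1 b` ⇒ `G ≃* A₅` (left disjunct).
   (B) `q = 2, k = 1`: `a ∈ {1, 2}`.
       `a = 1`: `|G| = p * 3 * 2^b`; `S0998.result (¬ IsCyclic G) p 2 3 b …` and `psl_transport`.
       `a = 2`: `Q : Sylow p G` has order `p²` (the `p`-part of `|G|`), so it is abelian
       (`IsPGroup.commutative_of_card_eq_prime_sq` or the `p²` lemma of Mathlib);
       `burnside_vanish hna p Q _ χ'' 1 le_rfl hdeg : p² ∣ p^1`: contradiction.
-/

set_option autoImplicit false

namespace Cfsg.Agent.Helper27.BT1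

open Cfsg

universe u

variable {G : Type u} [Group G] [Finite G]

/-- a prime power of a prime different from `3` is not divisible by `3` -/
theorem bt1c3_not_three_dvd (p k : ℕ) (hp : p.Prime) (hp3 : p ≠ 3) : ¬ 3 ∣ p ^ k := by
  intro h
  have h1 := Nat.prime_three.dvd_of_dvd_pow h
  exact hp3 ((Nat.prime_dvd_prime_iff_eq Nat.prime_three hp).mp h1).symm

/-- in a type with three elements, three distinct elements exhaust it -/
theorem bt1c3_three {T : Type*} (hT : Nat.card T = 3) (x y z : T) (hxy : x ≠ y) (hxz : x ≠ z)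
    (hyz : y ≠ z) (t : T) : t = x ∨ t = y ∨ t = z := by
  classical
  haveI : Finite T := Nat.finite_of_card_ne_zero (by rw [hT]; norm_num)
  haveI := Fintype.ofFinite T
  by_contra hcon
  push Not at hcon
  obtain ⟨h1, h2, h3⟩ := hcon
  have hcard : ({t, x, y, z} : Finset T).card = 4 := by
    rw [Finset.card_insert_of_notMem, Finset.card_insert_of_notMem, Finset.card_insert_of_notMem,
      Finset.card_singleton]
    · simp [hyz]
    · simp [hxy, hxz]
    · simp [h1, h2, h3]
  have hle := Finset.card_le_univ ({t, x, y, z} : Finset T)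
  rw [hcard, ← Nat.card_eq_fintype_card, hT] at hle
  omega

theorem case3 [IsSimpleGroup G] (hna : ∃ x y : G, x * y ≠ y * x) (p q a b : ℕ) (hp : p.Prime)
    (hq : q.Prime) (hpq : p ≠ q) (ha : a ≤ 2) (hcard : Nat.card G = 3 * p ^ a * q ^ b) :
    Nonempty (G ≃* alternatingGroup (Fin 5)) ∨
      Nonempty (G ≃* Matrix.ProjectiveSpecialLinearGroup (Fin 2) (ZMod 7)) := by
  classical
  haveI := Fintype.ofFinite G
  haveI : Fact (Nat.Prime 3) := ⟨Nat.prime_three⟩
  have hns : ¬ Group.IsSolvable G := by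
    intro h
    obtain ⟨x, y, hxy⟩ := hna
    exact hxy ((IsSimpleGroup.comm_iff_isSolvable.mpr h) x y)
  -- step 1
  have hp3 : p ≠ 3 := by
    intro h
    apply hns
    apply Cfsg.Agent.S0144.result 3 q (a + 1) b Nat.prime_three hq
    rw [hcard, h]
    ring
  have hq3 : q ≠ 3 := by
    intro h
    apply hns
    apply Cfsg.Agent.S0144.result p 3 a (b + 1) hp Nat.prime_three
    rw [hcard, h]
    ring
  have h3 : 3 ∣ Nat.card G := by
    rw [hcard, mul_assoc]
    exact dvd_mul_right 3 _
  have h9 : ¬ 9 ∣ Nat.card G := by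
    intro h
    rw [hcard, mul_assoc] at h
    have h' : 3 * 3 ∣ 3 * (p ^ a * q ^ b) := h
    have h1 : 3 ∣ p ^ a * q ^ b := Nat.dvd_of_mul_dvd_mul_left (by norm_num) h'
    rcases (Nat.Prime.dvd_mul Nat.prime_three).mp h1 with h2 | h2
    · exact bt1c3_not_three_dvd p a hp hp3 h2
    · exact bt1c3_not_three_dvd q b hq hq3 h2
  -- step 2
  have hcard' : Nat.card G = 3 ^ 1 * p ^ a * q ^ b := by rw [hcard, pow_one]
  obtain ⟨⟨χ'', h'', k, hk⟩, ⟨χ', h', l, hl⟩⟩ :=
    Cfsg.Agent.S4500.result 3 p q 1 a b Nat.prime_three hp hq (Ne.symm hp3) (Ne.symm hq3) hpq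
      (by norm_num) hcard'
  have hk1 : 1 ≤ k := by
    by_contra hk0
    have : k = 0 := by omega
    rw [this, pow_zero] at hk
    exact h'' (no_linear hna χ'' hk)
  have hl1 : 1 ≤ l := by
    by_contra hl0
    have : l = 0 := by omega
    rw [this, pow_zero] at hl
    exact h' (no_linear hna χ' hl)
  have hka : k ≤ a := by
    have h1 : p ^ k ∣ Nat.card G := by
      rw [← hk]
      exact Cfsg.Agent.Helper24.charDegree_dvd_card χ''.2
    rw [hcard] at h1
    have h2 : p ^ k ∣ p ^ a * (3 * q ^ b) := by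
      have : 3 * p ^ a * q ^ b = p ^ a * (3 * q ^ b) := by ring
      rwa [this] at h1
    have hc : Nat.Coprime (p ^ k) (3 * q ^ b) := by
      apply Nat.Coprime.mul_right
      · have := Nat.Coprime.pow k 1 ((Nat.coprime_primes hp Nat.prime_three).mpr hp3)
        rwa [pow_one] at this
      · exact Nat.Coprime.pow k b ((Nat.coprime_primes hp hq).mpr hpq)
    have h3' := hc.dvd_of_dvd_mul_right h2
    exact (Nat.pow_dvd_pow_iff_le_right hp.one_lt).mp h3'
  have hne : χ' ≠ χ'' := by
    intro h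
    rw [h, hk] at hl
    -- p ^ k = q ^ l
    have h1 : p ∣ q ^ l := by
      rw [← hl]
      exact dvd_pow_self p (by omega)
    have h2 := hp.dvd_of_dvd_pow h1
    exact hpq ((Nat.prime_dvd_prime_iff_eq hp hq).mp h2)
  -- step 3
  let S : Sylow 3 G := default
  obtain ⟨hkN, s, hs, hCs, hinv⟩ := sylow_three hna p q a b hp hq hpq hp3 hq3 hcard S
  have h9' : ¬ 3 ^ 2 ∣ Nat.card G := by
    rw [show (3 : ℕ) ^ 2 = 9 from rfl]
    exact h9
  have hcount := Cfsg.Agent.S4502.result 3 h3 h9' S
  rw [hkN] at hcount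
  have hd1 : ¬ 3 ∣ charDegree (fun _ : G => (1 : ℂ)) := by
    rw [Cfsg.Agent.Helper24.charDegree_natCast 1 (by simp)]
    norm_num
  have hd' : ¬ 3 ∣ charDegree (χ' : G → ℂ) := by
    rw [hl]
    exact bt1c3_not_three_dvd q l hq hq3
  have hd'' : ¬ 3 ∣ charDegree (χ'' : G → ℂ) := by
    rw [hk]
    exact bt1c3_not_three_dvd p k hp hp3
  have hall : ∀ χ : IrrCharacter G, ¬ 3 ∣ charDegree (χ : G → ℂ) →
      (χ : G → ℂ) = (fun _ => 1) ∨ χ = χ' ∨ χ = χ'' := by
    intro χ hχ
    have := bt1c3_three hcount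
      (⟨⟨fun _ => 1, Cfsg.Agent.Helper24.isIrrCharacter_one⟩, hd1⟩ :
        {χ : IrrCharacter G // ¬ 3 ∣ charDegree (χ : G → ℂ)})
      ⟨χ', hd'⟩ ⟨χ'', hd''⟩
      (by
        intro h
        apply h'
        have := congrArg (fun t : {χ : IrrCharacter G // ¬ 3 ∣ charDegree (χ : G → ℂ)} =>
          (t.1 : G → ℂ)) h
        exact this.symm)
      (by
        intro h
        apply h''
        have := congrArg (fun t : {χ : IrrCharacter G // ¬ 3 ∣ charDegree (χ : G → ℂ)} =>
          (t.1 : G → ℂ)) h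
        exact this.symm)
      (by
        intro h
        apply hne
        exact congrArg Subtype.val h)
      ⟨χ, hχ⟩
    rcases this with h | h | h
    · left
      have := congrArg (fun t : {χ : IrrCharacter G // ¬ 3 ∣ charDegree (χ : G → ℂ)} =>
          (t.1 : G → ℂ)) h
      exact this
    · right; left
      exact congrArg Subtype.val h
    · right; right
      exact congrArg Subtype.val h
  -- step 4
  obtain ⟨u, w, hu, hw, hrel⟩ := values_at_three h3 h9 s hs hCs hinv χ' χ'' hne h' h'' hall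
  rw [hl, hk] at hrel
  rcases arith_consecutive p q k l hp hq hpq hp3 hq3 hk1 (le_trans hka ha) hl1 u w hu hw hrel with
    ⟨hq2, hk1'⟩ | ⟨hp2, hk2, hq5, hl1'⟩
  · -- (B)
    have ha12 : a = 1 ∨ a = 2 := by omega
    rcases ha12 with ha1 | ha2
    · have hcyc : ¬ IsCyclic G := by
        intro hc
        obtain ⟨x, y, hxy⟩ := hna
        letI := IsCyclic.commGroup (α := G)
        exact hxy (mul_comm x y)
      have hp2 : p ≠ 2 := by rw [← hq2]; exact hpq
      have hcard2 : Nat.card G = p * 3 * 2 ^ b := by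
        rw [hcard, ha1, hq2, pow_one]
        ring
      exact psl_transport (Cfsg.Agent.S0998.result hcyc p 2 3 b hp Nat.prime_two Nat.prime_three
        hp2 hp3 (by norm_num) hcard2)
    · exfalso
      haveI : Fact p.Prime := ⟨hp⟩
      let Q : Sylow p G := default
      have hp2 : p ≠ 2 := by rw [← hq2]; exact hpq
      have hdvd2 : p ^ 2 ∣ Nat.card G := by
        rw [hcard, ha2]
        exact Dvd.dvd.mul_right (Dvd.intro_left 3 rfl) _
      have hQ2 : p ^ 2 ∣ Nat.card (Q : Subgroup G) := Q.pow_dvd_card_of_pow_dvd_card hdvd2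
      obtain ⟨m, hm⟩ := IsPGroup.iff_card.mp Q.isPGroup'
      have hm2 : m ≤ 2 := by
        have h1 : p ^ m ∣ Nat.card G := by
          rw [← hm]
          exact Subgroup.card_subgroup_dvd_card _
        rw [hcard, ha2, hq2] at h1
        have h2 : p ^ m ∣ p ^ 2 * (3 * 2 ^ b) := by
          have : 3 * p ^ 2 * 2 ^ b = p ^ 2 * (3 * 2 ^ b) := by ring
          rwa [this] at h1
        have hc : Nat.Coprime (p ^ m) (3 * 2 ^ b) := by
          apply Nat.Coprime.mul_right
          · have := Nat.Coprime.pow m 1 ((Nat.coprime_primes hp Nat.prime_three).mpr hp3)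
            rwa [pow_one] at this
          · exact Nat.Coprime.pow m b ((Nat.coprime_primes hp Nat.prime_two).mpr hp2)
        have h3' := hc.dvd_of_dvd_mul_right h2
        exact (Nat.pow_dvd_pow_iff_le_right hp.one_lt).mp h3'
      have hm2' : 2 ≤ m := by
        rw [hm] at hQ2
        exact (Nat.pow_dvd_pow_iff_le_right hp.one_lt).mp hQ2
      have hmeq : m = 2 := le_antisymm hm2 hm2'
      rw [hmeq] at hm
      have hQc : ∀ x ∈ (Q : Subgroup G), ∀ y ∈ (Q : Subgroup G), x * y = y * x := by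
        intro x hx y hy
        have := IsPGroup.commutative_of_card_eq_prime_sq hm ⟨x, hx⟩ ⟨y, hy⟩
        exact congrArg Subtype.val this
      have hbv := burnside_vanish hna p Q hQc χ'' 1 le_rfl (by rw [hk, hk1'])
      rw [hm, pow_one] at hbv
      have := Nat.le_of_dvd hp.pos hbv
      have h2 := hp.two_le
      nlinarith
  · -- (A)
    left
    have ha2 : a = 2 := by omega
    have hcard4 : Nat.card G = 4 * 3 ^ 1 * 5 ^ b := by
      rw [hcard, ha2, hp2, hq5]
      norm_num
    exact case4 hna 3 5 1 b Nat.prime_three (by norm_num) (by norm_num) hcard4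

end Cfsg.Agent.Helper27.BT1
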